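import Cfsg.Agent.Tw.ClassSq
import Cfsg.Agent.Tw.Ree3
import Cfsg.Agent.Forms.PermNorm
import Cfsg.Agent.StB.Blocks

/-! The Steinberg character of `²G₂` and involutions in squares of classes. -/

set_option autoImplicit false
set_option linter.unusedSectionVars false

namespace Cfsg.Agent.Tw

open Cfsg.Agent.CharLib Cfsg.Agent.Sz MulAction

theorem card_eq' {α β : Type*} {p : β → Prop} (f : α → β) (h1 : Function.Injective f) (h2 : ∀ g, p g ↔ ∃ a, g = f a) :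
    Nat.card {g // p g} = Nat.card α :=
  (Nat.card_eq_of_bijective (fun a => ⟨f a, (h2 _).2 ⟨a, rfl⟩⟩) ⟨fun _ _ e => h1 (congrArg Subtype.val e),
    fun g => ((h2 _).1 g.2).imp fun _ e => Subtype.ext e.symm⟩).symm

theorem card_orb_one (R X : Type*) [Group R] [MulAction R X] [Nonempty X] [IsPretransitive R X] :
    Nat.card (orbitRel.Quotient R X) = 1 :=
  Nat.card_eq_one_iff_unique.2 ⟨(pretransitive_iff_subsingleton_quotient _ _).1 inferInstance,
    ⟨Quotient.mk _ (Classical.arbitrary X)⟩⟩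

namespace RBN

variable {R : Type*} [Group R] {F : Type*} [Field F] (P : RBN R F)

theorem cell' {g : R} (h : g ∉ P.B) : ∃ u ∈ P.U, ∃ b ∈ P.B, g = u * P.n * b := by
  obtain ⟨b, hb, u, hu, e⟩ := (P.cell g⁻¹).resolve_left (by simpa)
  exact ⟨_, inv_mem hu, _, inv_mem hb, by rw [← inv_inv g, e]; simp [mul_assoc, P.n_inv]⟩

theorem cell_inj' {b b' u u' : R} (hb : b ∈ P.B) (hb' : b' ∈ P.B) (hu : u ∈ P.U) (hu' : u' ∈ P.U)
    (h : u * P.n * b = u' * P.n * b') : u = u' :=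
  inv_injective (P.cell_inj (inv_mem hb) (inv_mem hb') (inv_mem hu) (inv_mem hu') (by
    simpa [mul_assoc, P.n_inv] using congrArg (·⁻¹) h)).2

theorem cell_notMem' {b u : R} (hb : b ∈ P.B) (hu : u ∈ P.U) : u * P.n * b ∉ P.B := fun h =>
  P.n_notMem (by rwa [mul_mem_cancel_right hb, mul_mem_cancel_left (P.U_le_B hu)] at h)

theorem eq_h {b : R} (hb : b ∈ P.B) (h : P.n * b * P.n ∈ P.B) : ∃ s, b = P.h s := by
  obtain ⟨u, hu, s, rfl⟩ := P.mem_B.1 hb
  refine ⟨s, mul_eq_right.2 (P.ti0 u hu ?_)⟩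
  rw [← mul_mem_cancel_right (P.h_mem s⁻¹), ← P.n_h]
  convert h using 1
  simp only [mul_assoc, ← mul_assoc P.n P.n, P.n_sq, one_mul]

/-- the points of the natural action -/
noncomputable def pts : Option P.U ≃ R ⧸ P.B :=
  Equiv.ofBijective (fun o => o.elim ((1 : R) : R ⧸ P.B) fun u => ((u * P.n : R) : R ⧸ P.B)) ⟨by
    rintro (_ | u) (_ | u') e <;> simp only [Option.elim, QuotientGroup.eq] at e
    · rfl
    · exact absurd (by simpa using e) (P.cell_notMem' (one_mem _) u'.2)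
    · exact absurd (by simpa using inv_mem e) (P.cell_notMem' (one_mem _) u.2)
    · exact congrArg _ (Subtype.ext (P.cell_inj' e (one_mem _) u.2 u'.2 (by group))), fun c => by
    obtain ⟨g, rfl⟩ := QuotientGroup.mk_surjective c
    by_cases h : g ∈ P.B
    · exact ⟨none, QuotientGroup.eq.2 (by simpa)⟩
    · obtain ⟨u, hu, b, hb, rfl⟩ := P.cell' h
      exact ⟨some ⟨u, hu⟩, QuotientGroup.eq.2 (by simpa [mul_assoc])⟩⟩

/-- the Steinberg character -/
noncomputable def St : R → ℂ := (fun g => (Nat.card (fixedBy (R ⧸ P.B) g) : ℂ)) - fun g => (Nat.card (fixedBy Unit g) : ℂ)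

variable [Finite R]

theorem St_B {b : R} (hb : b ∈ P.B) : P.St b = Nat.card {u : P.U // ∃ s, u.1⁻¹ * b * u = P.h s} := by
  have h1 : Nat.card (fixedBy (R ⧸ P.B) b) = Nat.card (Option {u : P.U // ∃ s, u.1⁻¹ * b * u = P.h s}) := by
    refine card_eq' (fun o : Option {u : P.U // ∃ s, u.1⁻¹ * b * u = P.h s} => P.pts (o.map Subtype.val))
      (P.pts.injective.comp (Option.map_injective Subtype.val_injective)) fun c => ?_
    obtain ⟨o, rfl⟩ := P.pts.surjective c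
    have h1 : ∀ g : R, (g : R ⧸ P.B) ∈ fixedBy (R ⧸ P.B) b ↔ g⁻¹ * b * g ∈ P.B := fun g => by
      rw [mem_fixedBy, Quotient.smul_coe, eq_comm, QuotientGroup.eq, smul_eq_mul, mul_assoc]
    simp only [P.pts.injective.eq_iff]
    rcases o with _ | u
    · exact ⟨fun _ => ⟨none, rfl⟩, fun _ => (h1 1).2 (by simpa)⟩
    · refine (h1 _).trans ⟨fun h => ⟨some ⟨u, P.eq_h (mul_mem (mul_mem (inv_mem (P.U_le_B u.2)) hb) (P.U_le_B u.2))
        (by simpa [mul_assoc, P.n_inv] using h)⟩, rfl⟩, ?_⟩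
      rintro ⟨_ | ⟨v, s, e⟩, h⟩ <;> cases h
      convert P.h_mem s⁻¹ using 1
      rw [← P.n_h, ← e]; simp [mul_assoc, P.n_inv]
  simp only [St, Pi.sub_apply, h1]
  simp [show fixedBy Unit b = Set.univ from Set.eq_univ_of_forall fun _ => rfl]

theorem St_of_not {g : R} (h : ∀ y, y⁻¹ * g * y ∉ P.B) : P.St g = -1 := by
  have : IsEmpty (fixedBy (R ⧸ P.B) g) := ⟨by
    rintro ⟨c, hc⟩
    obtain ⟨y, rfl⟩ := QuotientGroup.mk_surjective c
    rw [mem_fixedBy, Quotient.smul_coe, eq_comm, QuotientGroup.eq, smul_eq_mul, ← mul_assoc] at hc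
    exact h y hc⟩
  simp only [St, Pi.sub_apply, Nat.card_of_isEmpty]
  simp [show fixedBy Unit g = Set.univ from Set.eq_univ_of_forall fun _ => rfl]

theorem St_one : P.St 1 = (Nat.card F ^ 3 : ℕ) := by
  rw [P.St_B (one_mem _), ← P.card_U]
  exact congrArg _ (Nat.card_congr (Equiv.subtypeUnivEquiv fun u => ⟨1, by simp⟩))

theorem St_irr : IsIrrCharacter R P.St := by
  classical
  have := Fintype.ofFinite R
  refine isIrr_of_norm_one ⟨_, _, isChar_fixedBy _, isChar_fixedBy _, rfl⟩ ?_ (by rw [P.St_one, Complex.natCast_re]; positivity)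
  have : IsPretransitive R ((R ⧸ P.B) × Unit) := ⟨fun a b => (exists_smul_eq R a.1 b.1).imp fun _ e => Prod.ext e rfl⟩
  have : IsPretransitive R (Unit × (R ⧸ P.B)) := ⟨fun a b => (exists_smul_eq R a.2 b.2).imp fun _ e => Prod.ext rfl e⟩
  have : IsPretransitive R (Unit × Unit) := ⟨fun a b => ⟨1, rfl⟩⟩
  have h2 : Nat.card (orbitRel.Quotient R ((R ⧸ P.B) × (R ⧸ P.B))) = 2 := by
    have h2 : ∀ a b : R ⧸ P.B, a ≠ b → ∃ g : R, g • (((1 : R) : R ⧸ P.B), ((P.n : R) : R ⧸ P.B)) = (a, b) := by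
      intro a b h
      obtain ⟨a, rfl⟩ := QuotientGroup.mk_surjective a
      obtain ⟨b, rfl⟩ := QuotientGroup.mk_surjective b
      obtain ⟨u, hu, c, hc, e⟩ := P.cell' (mt QuotientGroup.eq.2 h)
      exact ⟨a * u, Prod.ext (QuotientGroup.eq.2 (by simpa using P.U_le_B hu)) (QuotientGroup.eq.2 (by
        rw [inv_mul_eq_iff_eq_mul.1 e]; simpa [mul_assoc]))⟩
    refine Nat.card_eq_two_iff.2 ⟨Quotient.mk _ ((1 : R), (1 : R)), Quotient.mk _ ((1 : R), (P.n : R)), fun e => ?_,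
      Set.eq_univ_of_forall fun c => ?_⟩
    · obtain ⟨g, e⟩ := Quotient.exact e.symm
      exact P.n_notMem (by simpa using QuotientGroup.eq.1 ((congrArg Prod.fst e).symm.trans (congrArg Prod.snd e)))
    · obtain ⟨⟨a, b⟩, rfl⟩ := Quotient.exists_rep c
      by_cases h : a = b
      · obtain ⟨g, rfl⟩ := QuotientGroup.mk_surjective a
        exact Or.inl (Quotient.sound ⟨g, by simp [← h]⟩)
      · exact Or.inr (Quotient.sound (h2 a b h))
  simp only [St, CharLib.inner_sub_left, CharLib.inner_sub_right, Forms.inner_fixedBy, card_orb_one, h2]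
  norm_num

theorem sum_cls [Fintype R] {M : Type*} [AddCommMonoid M] (f : R → M) (g : R) [Fintype {y // y ∈ P.B ∧ IsConj g y}]
    [Fintype P.U] [Fintype {b // b ∈ P.B ∧ IsConj g (P.n * b)}] : ∑ y ∈ cls g, f y =
    ∑ y : {y // y ∈ P.B ∧ IsConj g y}, f y +
      ∑ u : P.U, ∑ b : {b // b ∈ P.B ∧ IsConj g (P.n * b)}, f (u * P.n * b * u.1⁻¹) := by
  have h0 : ∀ (u : P.U) {b}, b ∈ P.B → u * P.n * b * u.1⁻¹ = u * P.n * (b * u.1⁻¹) ∧ b * u.1⁻¹ ∈ P.B := fun u b hb =>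
    ⟨mul_assoc .., mul_mem hb (inv_mem (P.U_le_B u.2))⟩
  rw [← Finset.sum_coe_sort, ← Fintype.sum_prod_type', ← Fintype.sum_sumElim]
  refine (Fintype.sum_bijective (Sum.elim (fun y => ⟨y, mem_cls.2 y.2.2⟩)
    fun p : P.U × {b // b ∈ P.B ∧ IsConj g (P.n * b)} => ⟨p.1 * P.n * p.2 * p.1.1⁻¹,
    mem_cls.2 (p.2.2.2.trans (isConj_iff.2 ⟨p.1, by group⟩))⟩) ⟨?_, ?_⟩ _ _ ?_).symm
  · rintro (a | a) (b | b) e <;> simp only [Sum.elim_inl, Sum.elim_inr, Subtype.mk.injEq] at e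
    · exact congrArg _ (Subtype.ext e)
    · exact absurd ((h0 _ b.2.2.1).1 ▸ e ▸ a.2.1 :) (P.cell_notMem' (h0 _ b.2.2.1).2 b.1.2)
    · exact absurd ((h0 _ a.2.2.1).1 ▸ e ▸ b.2.1 :) (P.cell_notMem' (h0 _ a.2.2.1).2 a.1.2)
    · have := P.cell_inj' (h0 _ a.2.2.1).2 (h0 _ b.2.2.1).2 a.1.2 b.1.2 (by simpa only [mul_assoc] using e)
      exact congrArg _ (Prod.ext (Subtype.ext this) (Subtype.ext (by simpa [this] using e)))
  · rintro ⟨y, hy⟩
    by_cases h : y ∈ P.B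
    · exact ⟨.inl ⟨y, h, mem_cls.1 hy⟩, rfl⟩
    · obtain ⟨u, hu, b, hb, rfl⟩ := P.cell' h
      exact ⟨.inr (⟨u, hu⟩, ⟨b * u, mul_mem hb (P.U_le_B hu), (mem_cls.1 hy).trans (isConj_iff.2 ⟨u⁻¹, by group⟩)⟩),
        Subtype.ext (by simp [mul_assoc])⟩
  · rintro (_ | _) <;> rfl

variable [CharP F 3] [Finite F] (hc : ∀ a b : R, a ≠ 1 → a * a = 1 → b ≠ 1 → b * b = 1 → IsConj a b)

theorem J_sq : P.h (-1) * P.h (-1) = 1 := by rw [← map_mul]; simp

theorem J_ne_one : P.h (-1) ≠ 1 := fun e => P.J_ne (t := 0) (v := 0) (w := 0) (k := 0) (by simp [e, P.X_zero])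

include hc

theorem isConj_J {y : R} : IsConj (P.h (-1)) y ↔ orderOf y = 2 := by
  rw [orderOf_eq_prime_iff, pow_two]
  refine ⟨fun h => ?_, fun h => hc _ _ P.J_ne_one P.J_sq h.2 h.1⟩
  obtain ⟨c, rfl⟩ := isConj_iff.1 h
  exact ⟨by rw [conj_mul, P.J_sq]; simp, by simpa using P.J_ne_one⟩

theorem isConj_J_B {y : R} : y ∈ P.B ∧ IsConj (P.h (-1)) y ↔
    ∃ p : F × F, y = P.X p.1 (-(p.1 * P.θ p.1)) p.2 * P.h (-1) := by
  rw [P.isConj_J hc, orderOf_eq_prime_iff]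
  refine ⟨fun ⟨h3, h1, h2⟩ => ?_, ?_⟩
  · obtain ⟨t, v, w, rfl⟩ := P.eq_J h3 (by rw [show 6 = 2 * 3 from rfl, pow_mul, h1, one_pow])
      (by rwa [pow_succ, h1, one_mul])
    rw [P.sq_J, P.X_eq_one, neg_eq_zero, add_eq_zero_iff_eq_neg] at h1
    exact ⟨(t, w), by rw [h1.2.1]⟩
  · rintro ⟨p, rfl⟩
    exact ⟨P.mem_B.2 ⟨_, P.X_mem .., _, rfl⟩, by simp [P.sq_J, P.X_zero], fun e => P.J_ne (k := 0) ((pow_one _).trans e)⟩

theorem isConj_J_n {b : R} : b ∈ P.B ∧ IsConj (P.h (-1)) (P.n * b) ↔ ∃ s, b = P.h s := by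
  rw [P.isConj_J hc, orderOf_eq_prime_iff, pow_two]
  refine ⟨fun ⟨h3, h1, h2⟩ => P.eq_h h3 ?_, ?_⟩
  · rw [← mul_assoc, mul_eq_one_iff_eq_inv] at h1
    exact h1 ▸ inv_mem h3
  · rintro ⟨s, rfl⟩
    exact ⟨P.h_mem s, by rw [← mul_assoc, P.n_h, ← map_mul]; simp, fun e =>
      P.cell_notMem' (P.h_mem s) (one_mem _) (by simp [e])⟩

theorem omega_eq [Fintype R] {k V : Type*} [Field k] [CharP k 3] [AddCommGroup V] [Module k V] [Nontrivial V]
    (ρ : Representation k R V) {ω : R → k} (h : ∀ g v, ∑ y ∈ cls g, ρ y v = ω g • v) (h0 : ω (P.h (-1)) ≠ 0) (g : R) :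
    ω g = Nat.card {y // y ∈ P.B ∧ IsConj g y} - Nat.card {b // b ∈ P.B ∧ IsConj g (P.n * b)} := by
  classical
  have := Fintype.ofFinite F
  have hq : (Fintype.card F : k) = 0 := by
    obtain ⟨n, -, e⟩ := FiniteField.card F 3
    simp [e, CharP.cast_eq_zero k 3, show (3 : k) = 0 from CharP.cast_eq_zero k 3]
  have hi : Function.Injective P.h := fun a b e => (P.inj' (one_mem _) (one_mem _) (congrArg _ e)).2
  have c1 : (Nat.card {y // y ∈ P.B ∧ IsConj (P.h (-1)) y} : k) = 0 := by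
    rw [card_eq _ (fun a b e => Prod.ext (P.inj e).1.1 (P.inj e).1.2.2) fun _ => P.isConj_J_B hc]
    simp [hq]
  have c2 : (Nat.card {b // b ∈ P.B ∧ IsConj (P.h (-1)) (P.n * b)} : k) = -1 := by
    rw [card_eq _ hi fun _ => P.isConj_J_n hc, Nat.card_units, Nat.cast_pred Nat.card_pos]
    simp [hq]
  have hm : ∀ a b v, ρ (a * b) v = ρ a (ρ b v) := fun a b v => by rw [map_mul]; rfl
  have hU : ∀ {v}, (∀ u ∈ P.U, ρ u v = v) → ∀ b ∈ P.B, ∀ u ∈ P.U, ρ u (ρ b v) = ρ b v := fun {v} hv b hb u hu => by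
    rw [← hm, show u * b = b * (b⁻¹ * u * b⁻¹⁻¹) by group, hm, hv _ (P.conj_U (inv_mem hb) hu)]
  obtain ⟨w, hw, h1⟩ : ∃ w, w ≠ 0 ∧ ∀ b ∈ P.B, ρ b w = w := by
    obtain ⟨v, hv, h1⟩ := StB.exists_fixed_vec ρ P.isPGroup_U
    refine ⟨∑ b : {b // b ∈ P.B ∧ IsConj (P.h (-1)) (P.n * b)}, ρ b v, fun e => ?_, fun b hb => ?_⟩
    · have h2 := h (P.h (-1)) v
      rw [P.sum_cls, Finset.sum_congr rfl (g := fun _ => ρ (P.h (-1)) v) fun y _ => ?_] at h2
      · simp only [hm, fun u : P.U => h1 _ (inv_mem u.2), ← map_sum, e, map_zero, add_zero, Finset.sum_const,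
          Finset.card_univ, ← Nat.card_eq_fintype_card, ← Nat.cast_smul_eq_nsmul k, c1, zero_smul, smul_zero] at h2
        exact smul_ne_zero h0 hv h2.symm
      · obtain ⟨p, e⟩ := (P.isConj_J_B hc).1 y.2
        rw [e, hm, hU h1 _ (P.h_mem _) _ (P.X_mem ..)]
    · obtain ⟨u, hu, s, rfl⟩ := P.mem_B.1 hb
      rw [map_sum]
      let f : {b // b ∈ P.B ∧ IsConj (P.h (-1)) (P.n * b)} → {b // b ∈ P.B ∧ IsConj (P.h (-1)) (P.n * b)} := fun b =>
        ⟨P.h s * b, (P.isConj_J_n hc).2 (((P.isConj_J_n hc).1 b.2).elim fun t e => ⟨s * t, by rw [e, map_mul]⟩)⟩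
      exact Fintype.sum_bijective f (Finite.injective_iff_bijective.1 fun a b e =>
          Subtype.ext (mul_left_cancel (congrArg Subtype.val e))) _ _
        fun b => by rw [← hm, mul_assoc, hm, hU h1 _ (mul_mem (P.h_mem s) b.2.1) _ hu]
  set T := ∑ u : P.U, ρ (u * P.n) w with hT
  have h2 : ∀ g, ω g • w = (Nat.card {y // y ∈ P.B ∧ IsConj g y} : k) • w +
      (Nat.card {b // b ∈ P.B ∧ IsConj g (P.n * b)} : k) • T := fun g => by
    rw [← h, P.sum_cls, hT, Finset.smul_sum]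
    simp only [hm _ _⁻¹, hm _ (Subtype.val _), fun u : P.U => h1 _ (inv_mem (P.U_le_B u.2)), 
      fun y : {y // y ∈ P.B ∧ IsConj g y} => h1 _ y.2.1, fun y : {b // b ∈ P.B ∧ IsConj g (P.n * b)} => h1 _ y.2.1,
      Finset.sum_const, Finset.card_univ, ← Nat.card_eq_fintype_card, Nat.cast_smul_eq_nsmul]
  have h3 := h2 (P.h (-1))
  rw [c1, c2, zero_smul, zero_add, neg_one_smul] at h3
  have h4 : ∀ g, ρ g (w + T) = w + T := fun g => by
    let f : R ⧸ P.B → V := Quotient.lift (fun g => ρ g w) fun a b e => by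
      rw [← mul_inv_cancel_left a b, hm a, h1 _ (QuotientGroup.leftRel_apply.1 e)]
    have h4 : w + T = ∑ c, f c := by
      rw [← P.pts.sum_comp, Fintype.sum_option]
      exact congrArg (· + T) (h1 1 (one_mem _)).symm
    rw [h4, map_sum]
    exact Fintype.sum_equiv (toPerm g) _ _ fun c => by
      obtain ⟨y, rfl⟩ := QuotientGroup.mk_surjective c
      exact (hm ..).symm
  have h5 : ω (P.h (-1)) = 1 := by
    by_contra h5
    have h6 : ∀ g, ρ g w = w := fun g => smul_right_injective V (sub_ne_zero.2 (Ne.symm h5)) (by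
      simpa only [← neg_eq_iff_eq_neg.2 h3, ← sub_eq_add_neg, sub_smul, one_smul, map_sub, map_smul] using h4 g)
    simp only [hT, h6, Finset.sum_const, Finset.card_univ, ← Nat.card_eq_fintype_card, P.card_U,
      ← Nat.cast_smul_eq_nsmul k] at h3
    exact smul_ne_zero h0 hw (by simpa [hq] using h3)
  rw [h5, one_smul] at h3
  refine smul_left_injective k hw ?_
  simp only [h2, sub_smul, ← neg_eq_iff_eq_neg.2 h3, smul_neg, sub_eq_add_neg, add_smul, neg_smul]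

omit hc in
theorem St_J : P.St (P.h (-1)) = Nat.card F := by
  rw [P.St_B (P.h_mem _), card_eq' (fun v : F => (⟨_, P.X_mem 0 v 0⟩ : P.U))
    (fun a b e => (P.X_inj (congrArg Subtype.val e)).2.1) fun u => ?_]
  obtain ⟨u, hu⟩ := u
  obtain ⟨t, v, w, rfl⟩ := P.mem_U.1 hu
  have h1 := P.conj (-1) t v w
  simp only [Units.val_neg, Units.val_one, map_neg, map_one, mul_inv_eq_iff_eq_mul] at h1
  simp only [mul_assoc, inv_mul_eq_iff_eq_mul, h1, Subtype.mk.injEq]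
  refine ⟨fun ⟨s, e⟩ => ⟨v, ?_⟩, fun ⟨a, e⟩ => ⟨-1, ?_⟩⟩
  · obtain ⟨⟨h2, -, h3⟩, -⟩ := P.inj e
    congr 1 <;> grind
  · obtain ⟨rfl, rfl, rfl⟩ := P.X_inj e
    simp

omit hc in
theorem fix_h {s : Fˣ} (hs : s * s ≠ 1) {u : R} (hu : u ∈ P.U) (h : P.h s * u * (P.h s)⁻¹ = u) : u = 1 := by
  obtain ⟨t, v, w, rfl⟩ := P.mem_U.1 hu
  obtain ⟨h1, h2, h3⟩ := P.X_inj ((P.conj ..).symm.trans h)
  have h4 : (s : F) * s ≠ 1 := fun e => hs (Units.ext e)
  have h5 := P.θθ s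
  have h6 := s.ne_zero
  refine P.X_eq_one.2 ⟨by grind, by_contra fun h => ?_, by_contra fun h => ?_⟩
  · have h7 : s * P.θ s = 1 := by grind
    have := congrArg P.θ h7
    rw [map_mul, map_one] at this
    grind
  · have h7 : s ^ 2 * P.θ s = 1 := by grind
    have := congrArg P.θ h7
    rw [map_mul, map_one, map_pow] at this
    grind

omit hc in
theorem exists_conj_h {s : Fˣ} (hs : s * s ≠ 1) {u : R} (hu : u ∈ P.U) :
    ∃! y : P.U, y.1⁻¹ * (u * P.h s) * y = P.h s := by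
  have h1 : Function.Injective fun y : P.U => (⟨_, mul_mem y.2 (P.conj_U (P.h_mem s) (inv_mem y.2))⟩ : P.U) := fun a b e => by
    replace e := congrArg Subtype.val e
    refine Subtype.ext (inv_mul_eq_one.1 (P.fix_h hs (mul_mem (inv_mem a.2) b.2) ?_))
    calc _ = a.1⁻¹ * (a * (P.h s * a.1⁻¹ * (P.h s)⁻¹)) * (P.h s * b * (P.h s)⁻¹) := by group
      _ = _ := by rw [show a.1 * _ = _ from e]; group
  have h2 : ∀ y : P.U, y.1⁻¹ * (u * P.h s) * y = P.h s ↔ y * (P.h s * y.1⁻¹ * (P.h s)⁻¹) = u := fun y =>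
    ⟨fun e => by nth_rw 1 [← e]; group, fun e => by rw [← e]; group⟩
  simpa only [h2, Subtype.ext_iff] using (Finite.injective_iff_bijective.1 h1).existsUnique ⟨u, hu⟩

omit hc in
theorem mem_B_cases {x : R} (hx : x ∈ P.B) (h : x ^ 18 ≠ 1) : ∃ u ∈ P.U, ∃ s, s * s ≠ 1 ∧ x = u * P.h s := by
  obtain ⟨u, hu, s, rfl⟩ := P.mem_B.1 hx
  refine ⟨u, hu, s, fun e => h ?_, rfl⟩
  obtain ⟨u', h1, h2⟩ := P.pow_B hu s 2
  rw [show 18 = 2 * 3 ^ 2 from rfl, pow_mul, h2, pow_two s, e, map_one, mul_one, P.pow_nine h1]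

omit hc in
theorem St_sq {x : R} (h : x ^ 18 ≠ 1) : P.St x ^ 2 = 1 := by
  by_cases h1 : ∀ y, y⁻¹ * x * y ∉ P.B
  · simp [P.St_of_not h1]
  push Not at h1
  obtain ⟨y, hy⟩ := h1
  obtain ⟨u, hu, s, hs, e⟩ := P.mem_B_cases hy (by rwa [← inv_inv y, inv_inv y⁻¹, conj_pow, Ne, conj_eq_one_iff])
  rw [classFun_of_isConj (isChar_classFun (isChar_of_irr P.St_irr)) (isConj_iff.2 ⟨y⁻¹, by rw [inv_inv]⟩), P.St_B hy, e,
    Nat.card_eq_one_iff_exists.2, Nat.cast_one, one_pow]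
  obtain ⟨a, h1, h2⟩ := P.exists_conj_h hs hu
  refine ⟨⟨a, s, h1⟩, fun ⟨b, t, h3⟩ => Subtype.ext (h2 b ?_)⟩
  rwa [← (P.inj' (mul_mem (mul_mem (inv_mem b.2) hu) (P.conj_U (P.h_mem s) b.2)) (one_mem _) (s := s) (s' := t)
    (by rw [one_mul, ← h3]; group)).2] at h3

theorem omega_St : centralChar P.St (P.h (-1)) = (1 + Nat.card F * (Nat.card F - 1) : ℕ) := by
  rw [centralChar, index_centralizer_eq, P.St_J, P.St_one, Nat.card_congr (Equiv.subtypeEquivRight fun _ => P.isConj_J hc),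
    P.count2, div_eq_iff (by simp [Nat.card_pos.ne'])]
  norm_cast; ring

theorem cc_J {x : R} (h : x ^ 18 ≠ 1) : CC x (P.h (-1)) := by
  classical
  have := Fintype.ofFinite R
  by_contra hn
  obtain ⟨M, hM⟩ := exists_isPModular Nat.prime_three
  have := hM.2.1
  have hP := hM.2.1.isPrime
  let _ := Ideal.Quotient.field M
  have := charP_res hM
  have h1 : ∀ χ : IrrCharacter R, ¬ MemLocalIdeal M (centralChar (χ : R → ℂ) (P.h (-1))) → ∀ g, _ := fun χ h =>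
    have := modV_nontrivial hP.ne_top (isIrr_one_ne_zero χ.2)
    P.omega_eq hc (modRep M (χ : R → ℂ)) (sum_modRep χ) fun e =>
      h ((memLI_algInt_iff hP).2 (Ideal.Quotient.eq_zero_iff_mem.1 e))
  have h2 : ¬ MemLocalIdeal M (centralChar P.St (P.h (-1))) := by
    rw [P.omega_St hc, memLI_natCast_iff hM]
    obtain ⟨k, hk0, hk⟩ := Chev.Sys.exists_card_pow F 3
    have : 3 ∣ Nat.card F * (Nat.card F - 1) := Dvd.dvd.mul_right (hk ▸ dvd_pow_self _ hk0.ne') _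
    omega
  let o : IrrCharacter R := ⟨_, P.St_irr⟩
  have h3 : ∑ χ : IrrCharacter R, (χ : R → ℂ) x ^ 2 * centralChar (χ : R → ℂ) (P.h (-1)) = 0 := by
    have := congrArg (((Subgroup.centralizer ({P.h (-1)} : Set R)).index : ℂ) * ·) (frob_eq_zero hn)
    simp only [inv_eq_of_mul_eq_one_right P.J_sq, Finset.mul_sum, mul_zero] at this
    rw [← this]
    exact Finset.sum_congr rfl fun χ _ => by rw [centralChar]; ring
  rw [← Finset.add_sum_erase _ _ (Finset.mem_univ o), P.St_sq h, one_mul] at h3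
  refine h2 (eq_neg_of_add_eq_zero_left h3 ▸ memLI_neg (memLI_sum hP _ fun χ hχ => memLI_mul_left hP
    (memLR_of_isIntegral hP ((isChar_isIntegral (isChar_of_irr χ.2) _).pow 2)) (by_contra fun h4 => ?_)))
  exact Finset.ne_of_mem_erase hχ (Subtype.ext (eq_of_sameBlock hM P.St_irr χ.2 (defZero_of_dvd Nat.prime_three P.St_one (by
    rw [← P.syl.card_eq_multiplicity, ← P.card_U]; rfl)) ((sameBlock_iff hP o χ).2 fun g =>
      (h1 o h2 g).trans (h1 χ h4 g).symm)).symm)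

end RBN

end Cfsg.Agent.Tw
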