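import Cfsg.Agent.Tw.Isog
import Cfsg.Agent.Chev.DataF4

/-! The exceptional isogeny of type F4. -/

set_option autoImplicit false

namespace Cfsg.Agent.Tw

open Cfsg.Lie Cfsg.Agent.Chev

/-- index from a number -/
def idxF4 (x : ℕ) : chevF4.Idx :=
  if x < 4 then .inl ⟨x % 4, Nat.mod_lt _ (by decide)⟩ else .inr ⟨(x - 4) % 48, Nat.mod_lt _ (by decide)⟩

/-- number from an index -/
def numF4 : chevF4.Idx → ℕ
  | .inl i => i.val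
  | .inr r => r.val + 4

/-- short indices -/
def eSF4 (i : Fin 26) : chevF4.Idx := idxF4 ([48, 44, 43, 42, 41, 40, 39, 38, 37, 33, 32, 31, 0, 1, 24, 23, 22, 18, 17, 16, 15, 14, 13, 12, 11, 7].getD i 0)

/-- long indices -/
def eLF4 (i : Fin 26) : chevF4.Idx := idxF4 ([51, 50, 49, 47, 36, 46, 35, 30, 28, 45, 34, 29, 3, 2, 26, 21, 10, 27, 25, 20, 9, 19, 8, 6, 5, 4].getD i 0)

/-- the symmetry -/
def barF4 (r : Rt chevF4) : Rt chevF4 := ⟨[3, 7, 8, 0, 9, 11, 18, 1, 2, 4, 15, 5, 16, 21, 23, 10, 12, 19, 6, 17, 22, 13, 20, 14, 33, 27, 34, 25, 30, 41, 28, 35, 37, 24, 26, 31, 42, 32, 43, 45, 46, 29, 36, 38, 47, 39, 40, 44].getD r 0 % 48, Nat.mod_lt _ (by decide)⟩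

/-- the exponent -/
def lamF4 (r : Rt chevF4) : ℕ := [1, 1, 1, 2, 1, 1, 1, 2, 2, 2, 2, 2, 2, 2, 2, 1, 1, 1, 2, 2, 2, 1, 1, 1, 1, 1, 1, 2, 2, 2, 1, 1, 1, 2, 2, 2, 2, 2, 2, 2, 2, 1, 1, 1, 2, 1, 1, 1].getD r 0

/-- left inverse -/
def liF4 (a : chevF4.Idx) : List (Fin 26 × chevF4.Idx × ℤ) :=
  ((([[(0, 48, 1)], [(8, 37, 1)], [(2, 43, 1), (8, 37, 1)], [(4, 41, 1), (8, 37, 1)], [(0, 22, 1)], [(0, 23, 1)], [(0, 24, 1)], [(0, 1, 1)], [(0, 31, 1)], [(0, 32, 1)], [(0, 33, 1)], [(0, 37, 1)], [(0, 38, 1)], [(0, 39, 1)], [(0, 40, 1)], [(0, 41, 1)], [(0, 42, 1)], [(0, 43, 1)], [(0, 44, 1)], [(1, 38, 1)], [(1, 39, 1)], [(1, 40, 1)], [(1, 41, 1)], [(1, 42, 1)], [(1, 43, 1)], [(2, 41, 1)], [(2, 42, 1)], [(3, 41, 1)], [(4, 42, 1)], [(3, 43, 1)], [(4, 43, 1)], [(2, 44, 1)], [(3, 44, 1)], [(4, 44, 1)], [(5, 44, 1)], [(6, 44, 1)], [(7, 44, 1)], [(1, 48, 1)], [(2,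 48, 1)], [(3, 48, 1)], [(4, 48, 1)], [(5, 48, 1)], [(6, 48, 1)], [(7, 48, 1)], [(8, 48, 1)], [(9, 48, 1)], [(10, 48, 1)], [(11, 48, 1)], [(12, 48, 1)], [(14, 48, 1)], [(15, 48, 1)], [(16, 48, 1)]] : List (List (ℕ × ℕ × ℤ))).getD (numF4 a) []).map fun x => (Fin.ofNat 26 x.1, idxF4 x.2.1, x.2.2))

/-- inverse index map -/
def invF4 (a : chevF4.Idx) : Fin 26 := Fin.ofNat 26 ([12, 13, 13, 12, 25, 24, 23, 25, 22, 20, 16, 24, 23, 22, 21, 20, 19, 18, 17, 21, 19, 15, 16, 15, 14, 18, 14, 17, 8, 11, 7, 11, 10, 9, 10, 6, 4, 8, 7, 6, 5, 4, 3, 2, 1, 9, 5, 3, 0, 2, 1, 0].getD (numF4 a) 0)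

/-- the exceptional isogeny -/
def isogF4 : Isog certF4 2 26 where
  eS := eSF4
  eL := eLF4
  bij := by decide +kernel
  bar := barF4
  lam := lamF4
  inv := invF4
  inv_eS := by decide +kernel
  inv_eL := by decide +kernel
  tri' := by decide +kernel
  rel' := by decide +kernel
  rel2' := by decide +kernel
  bar_bar := by decide +kernel
  lam_mul := by decide +kernel
  ideal' := by decide +kernel
  li := liF4
  faith := by decide +kernel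

end Cfsg.Agent.Tw
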