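import Cfsg.Agent.Tw.IsogB2
import Cfsg.Agent.Tw.IsogG2
import Cfsg.Agent.Tw.IsogF4
import Cfsg.Agent.Chev.Data

/-! Existence of the graph automorphisms. -/

set_option autoImplicit false

namespace Cfsg.Agent.Tw

open Cfsg.Lie Cfsg.Lie.ChevalleyDatum Cfsg.Agent.Chev

/-- triality -/
def triD4 : SPerm certD4 where
  ν i := ⟨[2, 1, 3, 0].getD i 0 % 4, Nat.mod_lt _ (by decide)⟩
  νi i := ⟨[3, 1, 0, 2].getD i 0 % 4, Nat.mod_lt _ (by decide)⟩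
  ρ r := ⟨[0, 1, 6, 2, 7, 10, 3, 8, 4, 9, 11, 5, 18, 12, 14, 19, 15, 20, 13, 16, 21, 17, 22, 23].getD r 0 % 24, Nat.mod_lt _ (by decide)⟩
  ρi r := ⟨[0, 1, 3, 6, 8, 11, 2, 4, 7, 9, 5, 10, 13, 18, 14, 16, 19, 21, 12, 15, 17, 20, 22, 23].getD r 0 % 24, Nat.mod_lt _ (by decide)⟩
  ε r := ([1, 1, -1, 1, -1, 1, -1, 1, -1, 1, 1, 1, 1, 1, 1, -1, 1, -1, 1, -1, 1, -1, 1, 1] : List ℤ).getD r 0
  ν_νi := by decide +kernel
  νi_ν := by decide +kernel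
  ρ_ρi := by decide +kernel
  ρi_ρ := by decide +kernel
  ε_sq := by decide +kernel
  chk := by decide +kernel

/-- the swap of two outer nodes -/
def swapD4 : SPerm certD4 where
  ν i := ⟨[0, 1, 3, 2].getD i 0 % 4, Nat.mod_lt _ (by decide)⟩
  νi i := ⟨[0, 1, 3, 2].getD i 0 % 4, Nat.mod_lt _ (by decide)⟩
  ρ r := ⟨[0, 1, 3, 2, 4, 5, 6, 8, 7, 9, 11, 10, 13, 12, 14, 16, 15, 17, 18, 19, 21, 20, 22, 23].getD r 0 % 24, Nat.mod_lt _ (by decide)⟩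
  ρi r := ⟨[0, 1, 3, 2, 4, 5, 6, 8, 7, 9, 11, 10, 13, 12, 14, 16, 15, 17, 18, 19, 21, 20, 22, 23].getD r 0 % 24, Nat.mod_lt _ (by decide)⟩
  ε r := ([1, 1, 1, 1, 1, 1, 1, 1, 1, 1, 1, 1, 1, 1, 1, 1, 1, 1, 1, 1, 1, 1, 1, 1] : List ℤ).getD r 0
  ν_νi := by decide +kernel
  νi_ν := by decide +kernel
  ρ_ρi := by decide +kernel
  ρi_ρ := by decide +kernel
  ε_sq := by decide +kernel
  chk := by decide +kernel

/-- the symmetry of type E6 -/
def symE6 : SPerm certE6 where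
  ν i := ⟨[5, 1, 4, 3, 2, 0].getD i 0 % 6, Nat.mod_lt _ (by decide)⟩
  νi i := ⟨[5, 1, 4, 3, 2, 0].getD i 0 % 6, Nat.mod_lt _ (by decide)⟩
  ρ r := ⟨[0, 1, 2, 5, 16, 3, 6, 17, 8, 19, 22, 11, 26, 30, 33, 35, 4, 7, 18, 9, 20, 23, 10, 21, 24, 25, 12, 27, 31, 34, 13, 28, 32, 14, 29, 15, 56, 42, 57, 39, 43, 58, 37, 40, 44, 59, 46, 47, 50, 61, 48, 51, 62, 53, 64, 67, 36, 38, 41, 45, 60, 49, 52, 63, 54, 65, 68, 55, 66, 69, 70, 71].getD r 0 % 72, Nat.mod_lt _ (by decide)⟩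
  ρi r := ⟨[0, 1, 2, 5, 16, 3, 6, 17, 8, 19, 22, 11, 26, 30, 33, 35, 4, 7, 18, 9, 20, 23, 10, 21, 24, 25, 12, 27, 31, 34, 13, 28, 32, 14, 29, 15, 56, 42, 57, 39, 43, 58, 37, 40, 44, 59, 46, 47, 50, 61, 48, 51, 62, 53, 64, 67, 36, 38, 41, 45, 60, 49, 52, 63, 54, 65, 68, 55, 66, 69, 70, 71].getD r 0 % 72, Nat.mod_lt _ (by decide)⟩
  ε r := ([1, 1, 1, 1, -1, 1, 1, -1, 1, -1, -1, 1, -1, 1, -1, 1, -1, -1, 1, -1, 1, 1, -1, 1, 1, 1, -1, 1, -1, 1, 1, -1, 1, -1, 1, 1, 1, 1, -1, 1, -1, 1, 1, -1, 1, -1, 1, 1, 1, -1, 1, 1, -1, 1, -1, -1, 1, -1, 1, -1, 1, -1, -1, 1, -1, 1, 1, -1, 1, 1, 1, 1] : List ℤ).getD r 0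
  ν_νi := by decide +kernel
  νi_ν := by decide +kernel
  ρ_ρi := by decide +kernel
  ρi_ρ := by decide +kernel
  ε_sq := by decide +kernel
  chk := by decide +kernel

variable (F : Type*) [Field F]

theorem graphExp_D4 (c : ℕ) (i j : Nd chevD4) : chevD4.graphExp c i j = 1 := by
  have : ∀ j : Nd chevD4, chevD4.isLong (chevD4.simple j) = false := by decide +kernel
  rw [graphExp, this j]; rfl

theorem graphExp_E6 (c : ℕ) (i j : Nd chevE6) : chevE6.graphExp c i j = 1 := by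
  have : ∀ j : Nd chevE6, chevE6.isLong (chevE6.simple j) = false := by decide +kernel
  rw [graphExp, this j]; rfl

/-- node permutation -/
def SPerm.nodes {D : ChevalleyDatum} {C : Cert D} (P : SPerm C) : Equiv.Perm (Nd D) := ⟨P.ν, P.νi, P.νi_ν, P.ν_νi⟩

theorem triD4_sp : ∀ i, triD4.ρ (certD4.sp i) = certD4.sp (triD4.nodes i) ∧
    triD4.ρ (certD4.sp i).rev = (certD4.sp (triD4.nodes i)).rev ∧ triD4.ε (certD4.sp i) = 1 ∧
      triD4.ε (certD4.sp i).rev = 1 := by decide +kernel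

theorem swapD4_sp : ∀ i, swapD4.ρ (certD4.sp i) = certD4.sp (swapD4.nodes i) ∧
    swapD4.ρ (certD4.sp i).rev = (certD4.sp (swapD4.nodes i)).rev ∧ swapD4.ε (certD4.sp i) = 1 ∧
      swapD4.ε (certD4.sp i).rev = 1 := by decide +kernel

theorem symE6_sp : ∀ i, symE6.ρ (certE6.sp i) = certE6.sp (symE6.nodes i) ∧
    symE6.ρ (certE6.sp i).rev = (certE6.sp (symE6.nodes i)).rev ∧ symE6.ε (certE6.sp i) = 1 ∧
      symE6.ε (certE6.sp i).rev = 1 := by decide +kernel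

theorem sym_D4 (π : Equiv.Perm (Nd chevD4)) (h : chevD4.IsDiagramSymmetry π) : π = 1 ∨ π = triD4.nodes ∨
    π = triD4.nodes * triD4.nodes ∨ π = swapD4.nodes ∨ π = swapD4.nodes * triD4.nodes ∨
      π = triD4.nodes * swapD4.nodes := by
  have key : ∀ a b c d : Fin 4, (∀ i j : Fin 4, i ≠ j → ![a, b, c, d] i ≠ ![a, b, c, d] j ∧
      chevD4.bonds (![a, b, c, d] i) (![a, b, c, d] j) = chevD4.bonds i j) →
      ∃ σ ∈ ([1, triD4.nodes, triD4.nodes * triD4.nodes, swapD4.nodes, swapD4.nodes * triD4.nodes,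
        triD4.nodes * swapD4.nodes] : List (Equiv.Perm (Fin 4))), ∀ i : Fin 4, ![a, b, c, d] i = σ i := by decide +kernel
  have e : ∀ i : Fin 4, (![π (0 : Fin 4), π (1 : Fin 4), π (2 : Fin 4), π (3 : Fin 4)] : Fin 4 → Fin 4) i = π i := by
    intro i; fin_cases i <;> rfl
  obtain ⟨σ, hσ, h1⟩ := key (π (0 : Fin 4)) (π (1 : Fin 4)) (π (2 : Fin 4)) (π (3 : Fin 4)) fun i j hij => by
    rw [e, e]; exact ⟨π.injective.ne hij, h i j hij⟩
  obtain rfl : π = σ := Equiv.ext fun i => (e i).symm.trans (h1 i)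
  exact (by simp : ∀ x a b c d e f : Equiv.Perm (Fin 4), x ∈ [a, b, c, d, e, f] →
    x = a ∨ x = b ∨ x = c ∨ x = d ∨ x = e ∨ x = f) _ _ _ _ _ _ _ hσ

theorem exists_graph_D4 (π : Equiv.Perm (Nd chevD4)) (h : chevD4.IsDiagramSymmetry π) :
    ∃ τ : chevD4.group F ≃* chevD4.group F, IsGraphOf certD4 π τ := by
  obtain ⟨a, ha⟩ := triD4.exists_graph (F := F) _ graphExp_D4 triD4_sp
  obtain ⟨b, hb⟩ := swapD4.exists_graph (F := F) _ graphExp_D4 swapD4_sp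
  rcases sym_D4 π h with rfl | rfl | rfl | rfl | rfl | rfl
  exacts [⟨_, isGraphOf_one⟩, ⟨a, ha⟩, ⟨_, ha.mul ha graphExp_D4⟩, ⟨b, hb⟩, ⟨_, hb.mul ha graphExp_D4⟩,
    ⟨_, ha.mul hb graphExp_D4⟩]

/-- adjacency in the diagram of type E6 -/
def adjE6 (i j : Fin 6) : Bool :=
  (i.val, j.val) ∈ [(0, 2), (2, 0), (2, 3), (3, 2), (1, 3), (3, 1), (3, 4), (4, 3), (4, 5), (5, 4)]

set_option synthInstance.maxSize 1000 in
theorem sym_E6 (π : Equiv.Perm (Nd chevE6)) (h : chevE6.IsDiagramSymmetry π) : π = 1 ∨ π = symE6.nodes := by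
  have hb : ∀ i j : Fin 6, i ≠ j → chevE6.bonds i j = if adjE6 i j then 1 else 0 := by
    decide +kernel
  have key : ∀ a b c d e f : Fin 6, (∀ i j : Fin 6, i ≠ j → ![a, b, c, d, e, f] i ≠ ![a, b, c, d, e, f] j ∧
      (adjE6 (![a, b, c, d, e, f] i) (![a, b, c, d, e, f] j) ↔ adjE6 i j)) →
      ∃ σ ∈ ([1, symE6.nodes] : List (Equiv.Perm (Fin 6))), ∀ i : Fin 6, ![a, b, c, d, e, f] i = σ i := by
    intro a b c d e f h
    have : ∀ b c d e : Fin 6, adjE6 d b → adjE6 d c → adjE6 d e → b ≠ c → b ≠ e → c ≠ e → ∀ a : Fin 6, a ≠ d →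
      adjE6 a c → ∀ f : Fin 6, f ≠ d → adjE6 e f →
      ∃ σ ∈ ([1, symE6.nodes] : List (Equiv.Perm (Fin 6))), ∀ i : Fin 6, ![a, b, c, d, e, f] i = σ i := by
      decide +kernel
    exact this b c d e ((h 3 1 (by decide)).2.2 (by decide)) ((h 3 2 (by decide)).2.2 (by decide))
      ((h 3 4 (by decide)).2.2 (by decide)) (h 1 2 (by decide)).1 (h 1 4 (by decide)).1 (h 2 4 (by decide)).1 a
      (h 0 3 (by decide)).1 ((h 0 2 (by decide)).2.2 (by decide)) f (h 5 3 (by decide)).1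
      ((h 4 5 (by decide)).2.2 (by decide))
  have e : ∀ i : Fin 6, (![π (0 : Fin 6), π (1 : Fin 6), π (2 : Fin 6), π (3 : Fin 6), π (4 : Fin 6),
      π (5 : Fin 6)] : Fin 6 → Fin 6) i = π i := by
    intro i; fin_cases i <;> rfl
  obtain ⟨σ, hσ, h1⟩ := key (π (0 : Fin 6)) (π (1 : Fin 6)) (π (2 : Fin 6)) (π (3 : Fin 6)) (π (4 : Fin 6))
    (π (5 : Fin 6)) fun i j hij => by
      rw [e, e]
      have h1 := h i j hij
      rw [hb i j hij, hb _ _ (π.injective.ne hij)] at h1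
      refine ⟨π.injective.ne hij, ?_⟩
      split_ifs at h1 with h2 h3 h3
      exacts [iff_of_true h2 h3, absurd h1 one_ne_zero, absurd h1 zero_ne_one, iff_of_false h2 h3]
  obtain rfl : π = σ := Equiv.ext fun i => (e i).symm.trans (h1 i)
  exact (by simp : ∀ x a b : Equiv.Perm (Fin 6), x ∈ [a, b] → x = a ∨ x = b) _ _ _ hσ

theorem exists_graph_E6 (π : Equiv.Perm (Nd chevE6)) (h : chevE6.IsDiagramSymmetry π) :
    ∃ τ : chevE6.group F ≃* chevE6.group F, IsGraphOf certE6 π τ := by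
  rcases sym_E6 π h with rfl | rfl
  exacts [⟨_, isGraphOf_one⟩, symE6.exists_graph (F := F) _ graphExp_E6 symE6_sp]

theorem isGraphOf_of {D : ChevalleyDatum} {C : Cert D} {p : ℕ} [CharP F p] {π : Equiv.Perm (Nd D)}
    {bar : Rt D → Rt D} {lam : Rt D → ℕ} (h : ∀ i, bar (C.sp i) = C.sp (π i) ∧ bar (C.sp i).rev = (C.sp (π i)).rev ∧
      lam (C.sp i) = D.graphExp p i (π i) ∧ lam (C.sp i).rev = D.graphExp p i (π i))
    (h' : ∃ τ : D.group F ≃* D.group F, ∀ r t, τ ((C.sys F).x r t) = (C.sys F).x (bar r) (t ^ lam r)) :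
    ∃ τ : D.group F ≃* D.group F, IsGraphOf C π τ := by
  obtain ⟨τ, hτ⟩ := h'
  exact ⟨τ, fun i t => by simp [hτ, h, ringChar.eq F p]⟩

theorem perm_two (π : Equiv.Perm (Fin 2)) : π = 1 ∨ π = Fin.revPerm := by revert π; decide

theorem exists_graph_G2 [Finite F] [CharP F 3] (π : Equiv.Perm (Nd chevG2)) :
    ∃ τ : chevG2.group F ≃* chevG2.group F, IsGraphOf certG2 π τ := by
  rcases perm_two π with rfl | rfl
  · exact ⟨_, isGraphOf_one⟩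
  · exact isGraphOf_of F (p := 3) (by decide +kernel) isogG2.exists_aut

theorem exists_graph_B2 [Finite F] [CharP F 2] (π : Equiv.Perm (Nd chevB2)) :
    ∃ τ : chevB2.group F ≃* chevB2.group F, IsGraphOf certB2 π τ := by
  rcases perm_two π with rfl | rfl
  · exact ⟨_, isGraphOf_one⟩
  · exact isGraphOf_of F (p := 2) (by decide +kernel) isogB2.exists_aut

theorem sym_F4 (π : Equiv.Perm (Nd chevF4)) (h : chevF4.IsDiagramSymmetry π) : π = 1 ∨ π = Fin.revPerm := by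
  have key : ∀ a b c d : Fin 4, (∀ i j : Fin 4, i ≠ j → ![a, b, c, d] i ≠ ![a, b, c, d] j ∧
      chevF4.bonds (![a, b, c, d] i) (![a, b, c, d] j) = chevF4.bonds i j) →
      ∃ σ ∈ [1, (Fin.revPerm : Equiv.Perm (Fin 4))], ∀ i : Fin 4, ![a, b, c, d] i = σ i := by decide +kernel
  have e : ∀ i : Fin 4, (![π (0 : Fin 4), π (1 : Fin 4), π (2 : Fin 4), π (3 : Fin 4)] : Fin 4 → Fin 4) i = π i := by
    intro i; fin_cases i <;> rfl
  obtain ⟨σ, hσ, h1⟩ := key (π (0 : Fin 4)) (π (1 : Fin 4)) (π (2 : Fin 4)) (π (3 : Fin 4)) fun i j hij => by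
    rw [e, e]; exact ⟨π.injective.ne hij, h i j hij⟩
  obtain rfl : π = σ := Equiv.ext fun i => (e i).symm.trans (h1 i)
  exact (by simp : ∀ x a b : Equiv.Perm (Fin 4), x ∈ [a, b] → x = a ∨ x = b) _ _ _ hσ

theorem exists_graph_F4 [Finite F] [CharP F 2] (π : Equiv.Perm (Nd chevF4)) (h : chevF4.IsDiagramSymmetry π) :
    ∃ τ : chevF4.group F ≃* chevF4.group F, IsGraphOf certF4 π τ := by
  rcases sym_F4 π h with rfl | rfl
  · exact ⟨_, isGraphOf_one⟩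
  · exact isGraphOf_of F (p := 2) (by decide +kernel) isogF4.exists_aut

end Cfsg.Agent.Tw
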