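import Cfsg.Agent.RGD.TypeA
import Cfsg.Agent.SymAlt.Carmichael
import Cfsg.Agent.GLn.Card
import Mathlib.GroupTheory.SpecificGroups.Alternating.Simple

/-! Homomorphisms out of `SL_n(q)` and `A_n`; the isomorphism `A₈ ≅ SL₄(2)`. -/

set_option autoImplicit false

namespace Cfsg.Agent.Tw

open Subgroup Matrix Cfsg.Agent.RGD Cfsg.Agent.SymAlt Equiv
open scoped commutatorElement

/-- a subgroup of a product mapping injectively to a group through `π` is the graph of a homomorphism -/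
theorem exists_hom_of_graph {A B P : Type*} [Group A] [Group B] [Group P] (f : P →* A) (π : P →* B)
    (h : Function.Bijective π) : ∃ φ : B →* A, ∀ p, φ (π p) = f p :=
  ⟨f.comp (MulEquiv.ofBijective π h).symm.toMonoidHom, fun p =>
    congrArg f ((MulEquiv.ofBijective π h).symm_apply_apply p)⟩

/-- the Steinberg presentation of `SL_n(q)` -/
theorem exists_fromSL {K G : Type*} [Field K] [Finite K] [Group G] {m : ℕ} (hm : 2 ≤ m) (y : Fam (ARoot (m + 1)) K G)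
    (h1 : ∀ a b c (h : a ≠ b) (h' : b ≠ c) (h'' : a ≠ c) t u,
      ⁅y.x ⟨(a, b), h⟩ t, y.x ⟨(b, c), h'⟩ u⁆ = y.x ⟨(a, c), h''⟩ (t * u))
    (h2 : ∀ r s : ARoot (m + 1), r.1.2 ≠ s.1.1 → s.1.2 ≠ r.1.1 → ∀ t u, ⁅y.x r t, y.x s u⁆ = 1) :
    ∃ φ : SpecialLinearGroup (Fin (m + 1)) K →* G, ∀ r t, φ ((slFam K (m + 1)).x r t) = y.x r t := by
  let F : Fam (ARoot (m + 1)) K (G × SpecialLinearGroup (Fin (m + 1)) K) :=
    ⟨fun r t => (y.x r t, (slFam K (m + 1)).x r t), fun r t u => by rw [y.x_add, Fam.x_add]; rfl⟩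
  have hc : (typeA m).CommRel F.X := by
    rintro ⟨⟨a, b⟩, h⟩ ⟨⟨c, d⟩, h'⟩ - h0
    have h3 : ¬ (c = b ∧ d = a) := fun e => h0 (Subtype.ext (Prod.ext e.1 e.2))
    have k : ∀ a b c (h : a ≠ b) (h' : b ≠ c) (h'' : a ≠ c), ⁅F.X ⟨(a, b), h⟩, F.X ⟨(b, c), h'⟩⁆ ≤ F.X ⟨(a, c), h''⟩ :=
      fun a b c h h' h'' => Fam.comm_X_le _ fun t u => F.mem_X.2 ⟨t * u,
        (Prod.ext (h1 a b c h h' h'' t u) (slFam_comm h h' h'' t u)).symm⟩
    by_cases e1 : b = c
    · subst e1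
      exact (k a b d h h' fun e => h3 ⟨rfl, e.symm⟩).trans (le_US (U := F.X) (Or.inl ⟨rfl, rfl⟩))
    by_cases e2 : d = a
    · subst e2
      rw [commutator_comm]
      exact (k c d b h' h (Ne.symm e1)).trans (le_US (U := F.X) (Or.inr ⟨rfl, rfl⟩))
    · refine Fam.comm_X_le _ fun t u => ?_
      rw [show ⁅F.x _ t, F.x _ u⁆ = 1 from Prod.ext (h2 _ _ e1 e2 t u) (slFam_commute _ _ e1 e2 t u)]
      exact one_mem _
  have hk := (slFam_isChev hm).inf_ker (slFam_tau_inj m) (F' := F) (θ := MonoidHom.snd _ _) (fun _ _ => rfl) hc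
  have hx : ∀ r t, F.x r t ∈ US F.X Set.univ := fun r t => le_US (Set.mem_univ r) (F.x_mem r t)
  have : Nontrivial (Fin (m + 1)) := Fin.nontrivial_iff_two_le.2 (by omega)
  obtain ⟨φ, hφ⟩ := exists_hom_of_graph ((MonoidHom.fst _ _).comp (US F.X Set.univ).subtype)
    ((MonoidHom.snd _ _).comp (US F.X Set.univ).subtype) ⟨(injective_iff_map_eq_one _).2 fun p hp =>
      Subtype.ext (mem_bot.1 (hk.le ⟨p.2, hp⟩)), MonoidHom.range_eq_top.1 (top_le_iff.1 ((slFam_top _).ge.trans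
        (US_le fun r _ => Fam.X_le _ fun t => ⟨⟨_, hx r t⟩, rfl⟩)))⟩
  exact ⟨φ, fun r t => hφ ⟨_, hx r t⟩⟩

/-- Carmichael's presentation -/
theorem exists_fromAlt {α G : Type*} [Fintype α] [DecidableEq α] [Group G] {u v : α} (huv : u ≠ v) (y : α → G)
    (h3 : ∀ i, i ≠ u → i ≠ v → y i ^ 3 = 1) (h2 : ∀ i j, i ≠ u → i ≠ v → j ≠ u → j ≠ v → i ≠ j → (y i * y j) ^ 2 = 1) :
    ∃ φ : alternatingGroup α →* G, ∀ i, i ≠ u → i ≠ v → y i ∈ φ.range := by
  let x : α → G × Perm α := fun i => (y i, c3 u v i)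
  let S : Set α := {i | i ≠ u ∧ i ≠ v}
  have hs : ∀ p : closure (x '' S), p.1.2 ∈ alternatingGroup α := fun p =>
    Perm.mem_alternatingGroup.2 (carm_sign (MonoidHom.snd G _) huv x S (fun h => h.1 rfl) (fun _ _ => rfl) p.2)
  obtain ⟨φ, hφ⟩ := exists_hom_of_graph ((MonoidHom.fst _ _).comp (closure (x '' S)).subtype)
    (((MonoidHom.snd _ _).comp (closure (x '' S)).subtype).codRestrict _ hs) ⟨(injective_iff_map_eq_one _).2
      fun p hp => Subtype.ext (carmichael (MonoidHom.snd _ _) huv x S (Set.toFinite _) (fun h => h.1 rfl)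
        (fun h => h.2 rfl) (fun _ _ => rfl) (fun i hi => Prod.ext (h3 i hi.1 hi.2) (c3_cube huv hi.1 hi.2))
        (fun i hi j hj h => Prod.ext (h2 i j hi.1 hi.2 hj.1 hj.2 h) (c3_mul_sq huv hi.1 hi.2 hj.1 hj.2 h)) p.2
        (congrArg Subtype.val hp)), fun σ => by
      obtain ⟨g, hg, e⟩ := carm_surj (MonoidHom.snd _ _) huv x S (fun _ _ => rfl) σ.1 σ.2 fun z h h' h'' =>
        absurd ⟨h, h'⟩ h''
      exact ⟨⟨g, hg⟩, Subtype.ext e⟩⟩
  exact ⟨φ, fun i h h' => ⟨_, hφ ⟨x i, subset_closure ⟨i, ⟨h, h'⟩, rfl⟩⟩⟩⟩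

/-- the images of the 3-cycles -/
def a8M (i : Fin 8) : Matrix (Fin 4) (Fin 4) (ZMod 2) := fun a b =>
  if ([33825, 33825, 4713, 9133, 12773, 38856, 42372, 46668].getD i 0).testBit (4 * a + b) then 1 else 0

theorem a8M_cube : ∀ i, a8M i * (a8M i * a8M i) = 1 := by decide +kernel

/-- the same in the special linear group -/
def a8S (i : Fin 8) : SpecialLinearGroup (Fin 4) (ZMod 2) :=
  ⟨a8M i, (by decide : ∀ d : ZMod 2, d * (d * d) = 1 → d = 1) _ (by rw [← det_mul, ← det_mul, a8M_cube, det_one])⟩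

theorem inj_of_simple {A B : Type*} [Group A] [Group B] [IsSimpleGroup A] (φ : A →* B) {b : B} (h : b ∈ φ.range)
    (hb : b ≠ 1) : Function.Injective φ := by
  rcases φ.normal_ker.eq_bot_or_eq_top with e | e
  · exact (MonoidHom.ker_eq_bot_iff φ).1 e
  · obtain ⟨a, rfl⟩ := h
    exact absurd (e.ge (mem_top a)) hb

theorem exists_a8_equiv : Nonempty (alternatingGroup (Fin 8) ≃* SpecialLinearGroup (Fin 4) (ZMod 2)) := by
  obtain ⟨φ, hφ⟩ := exists_fromAlt (G := SpecialLinearGroup (Fin 4) (ZMod 2)) (u := (0 : Fin 8)) (v := 1) (by decide)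
    a8S (fun i _ _ => (pow_three _).trans (Subtype.ext (a8M_cube i))) fun i j h1 h2 h3 h4 h5 => (pow_two _).trans
      (Subtype.ext ((by decide +kernel : ∀ i j, i ≠ 0 → i ≠ 1 → j ≠ 0 → j ≠ 1 → i ≠ j →
        a8M i * a8M j * (a8M i * a8M j) = 1) i j h1 h2 h3 h4 h5))
  have := alternatingGroup.isSimpleGroup (α := Fin 8) (by simp)
  refine ⟨MulEquiv.ofBijective φ ((Nat.bijective_iff_injective_and_card φ).2 ⟨inj_of_simple φ
    (hφ 2 (by decide) (by decide)) fun e => absurd (congrArg Subtype.val e) (by decide +kernel), ?_⟩)⟩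
  have h := two_mul_nat_card_alternatingGroup (α := Fin 8)
  rw [GLn.card_SL_eq, ZMod.card]
  rw [Nat.card_perm, Nat.card_fin] at h
  simp only [Nat.factorial] at h
  rw [show ∏ i ∈ Finset.Icc 2 4, (2 ^ i - 1) = 315 by decide]
  omega

end Cfsg.Agent.Tw
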