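import Cfsg.Agent.Tw.TwFix
import Cfsg.Agent.RGD.Univ

/-! Values of the fundamental roots on the torus. -/

set_option autoImplicit false

namespace Cfsg.Agent.Tw

open Cfsg.Lie Cfsg.Agent.Chev

variable {A : Type*} [CommGroup A]

theorem carG2_0 (t : Fin 2 → A) : ∏ j : Nd chevG2, t j ^ RGD.carM chevG2 j ⟨0, by decide⟩ = t 0 ^ 2 * (t 1)⁻¹ :=
  (Fin.prod_univ_two _).trans (by
    change t 0 ^ (2 : ℤ) * t 1 ^ (-1 : ℤ) = _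
    simp only [zpow_neg, zpow_ofNat, pow_zero, pow_one, mul_one, one_mul, mul_inv_rev, mul_comm, mul_left_comm, mul_assoc])

theorem carG2_1 (t : Fin 2 → A) : ∏ j : Nd chevG2, t j ^ RGD.carM chevG2 j ⟨1, by decide⟩ = t 1 ^ 2 * (t 0 ^ 3)⁻¹ :=
  (Fin.prod_univ_two _).trans (by
    change t 0 ^ (-3 : ℤ) * t 1 ^ (2 : ℤ) = _
    simp only [zpow_neg, zpow_ofNat, pow_zero, pow_one, mul_one, one_mul, mul_inv_rev, mul_comm, mul_left_comm, mul_assoc])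

theorem carF4_0 (t : Fin 4 → A) : ∏ j : Nd chevF4, t j ^ RGD.carM chevF4 j ⟨0, by decide⟩ = t 0 ^ 2 * (t 1)⁻¹ :=
  (Fin.prod_univ_four _).trans (by
    change t 0 ^ (2 : ℤ) * t 1 ^ (-1 : ℤ) * t 2 ^ (0 : ℤ) * t 3 ^ (0 : ℤ) = _
    simp only [zpow_neg, zpow_ofNat, pow_zero, pow_one, mul_one, one_mul, mul_inv_rev, mul_comm, mul_left_comm, mul_assoc])

theorem carF4_1 (t : Fin 4 → A) : ∏ j : Nd chevF4, t j ^ RGD.carM chevF4 j ⟨1, by decide⟩ = t 1 ^ 2 * (t 0 * t 2)⁻¹ :=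
  (Fin.prod_univ_four _).trans (by
    change t 0 ^ (-1 : ℤ) * t 1 ^ (2 : ℤ) * t 2 ^ (-1 : ℤ) * t 3 ^ (0 : ℤ) = _
    simp only [zpow_neg, zpow_ofNat, pow_zero, pow_one, mul_one, one_mul, mul_inv_rev, mul_comm, mul_left_comm, mul_assoc])

theorem carF4_2 (t : Fin 4 → A) : ∏ j : Nd chevF4, t j ^ RGD.carM chevF4 j ⟨2, by decide⟩ = t 2 ^ 2 * (t 1 ^ 2 * t 3)⁻¹ :=
  (Fin.prod_univ_four _).trans (by
    change t 0 ^ (0 : ℤ) * t 1 ^ (-2 : ℤ) * t 2 ^ (2 : ℤ) * t 3 ^ (-1 : ℤ) = _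
    simp only [zpow_neg, zpow_ofNat, pow_zero, pow_one, mul_one, one_mul, mul_inv_rev, mul_comm, mul_left_comm, mul_assoc])

theorem carF4_3 (t : Fin 4 → A) : ∏ j : Nd chevF4, t j ^ RGD.carM chevF4 j ⟨3, by decide⟩ = t 3 ^ 2 * (t 2)⁻¹ :=
  (Fin.prod_univ_four _).trans (by
    change t 0 ^ (0 : ℤ) * t 1 ^ (0 : ℤ) * t 2 ^ (-1 : ℤ) * t 3 ^ (2 : ℤ) = _
    simp only [zpow_neg, zpow_ofNat, pow_zero, pow_one, mul_one, one_mul, mul_inv_rev, mul_comm, mul_left_comm, mul_assoc])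

theorem carD4_0 (t : Fin 4 → A) : ∏ j : Nd chevD4, t j ^ RGD.carM chevD4 j ⟨0, by decide⟩ = t 0 ^ 2 * (t 1)⁻¹ :=
  (Fin.prod_univ_four _).trans (by
    change t 0 ^ (2 : ℤ) * t 1 ^ (-1 : ℤ) * t 2 ^ (0 : ℤ) * t 3 ^ (0 : ℤ) = _
    simp only [zpow_neg, zpow_ofNat, pow_zero, pow_one, mul_one, one_mul, mul_inv_rev, mul_comm, mul_left_comm, mul_assoc])

theorem carD4_1 (t : Fin 4 → A) : ∏ j : Nd chevD4, t j ^ RGD.carM chevD4 j ⟨1, by decide⟩ = t 1 ^ 2 * (t 0 * t 2 * t 3)⁻¹ :=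
  (Fin.prod_univ_four _).trans (by
    change t 0 ^ (-1 : ℤ) * t 1 ^ (2 : ℤ) * t 2 ^ (-1 : ℤ) * t 3 ^ (-1 : ℤ) = _
    simp only [zpow_neg, zpow_ofNat, pow_zero, pow_one, mul_one, one_mul, mul_inv_rev, mul_comm, mul_left_comm, mul_assoc])

theorem carD4_2 (t : Fin 4 → A) : ∏ j : Nd chevD4, t j ^ RGD.carM chevD4 j ⟨2, by decide⟩ = t 2 ^ 2 * (t 1)⁻¹ :=
  (Fin.prod_univ_four _).trans (by
    change t 0 ^ (0 : ℤ) * t 1 ^ (-1 : ℤ) * t 2 ^ (2 : ℤ) * t 3 ^ (0 : ℤ) = _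
    simp only [zpow_neg, zpow_ofNat, pow_zero, pow_one, mul_one, one_mul, mul_inv_rev, mul_comm, mul_left_comm, mul_assoc])

theorem carD4_3 (t : Fin 4 → A) : ∏ j : Nd chevD4, t j ^ RGD.carM chevD4 j ⟨3, by decide⟩ = t 3 ^ 2 * (t 1)⁻¹ :=
  (Fin.prod_univ_four _).trans (by
    change t 0 ^ (0 : ℤ) * t 1 ^ (-1 : ℤ) * t 2 ^ (0 : ℤ) * t 3 ^ (2 : ℤ) = _
    simp only [zpow_neg, zpow_ofNat, pow_zero, pow_one, mul_one, one_mul, mul_inv_rev, mul_comm, mul_left_comm, mul_assoc])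

theorem carE6_0 (t : Fin 6 → A) : ∏ j : Nd chevE6, t j ^ RGD.carM chevE6 j ⟨0, by decide⟩ = t 0 ^ 2 * (t 2)⁻¹ :=
  (Fin.prod_univ_six _).trans (by
    change t 0 ^ (2 : ℤ) * t 1 ^ (0 : ℤ) * t 2 ^ (-1 : ℤ) * t 3 ^ (0 : ℤ) * t 4 ^ (0 : ℤ) * t 5 ^ (0 : ℤ) = _
    simp only [zpow_neg, zpow_ofNat, pow_zero, pow_one, mul_one, one_mul, mul_inv_rev, mul_comm, mul_left_comm, mul_assoc])

theorem carE6_1 (t : Fin 6 → A) : ∏ j : Nd chevE6, t j ^ RGD.carM chevE6 j ⟨1, by decide⟩ = t 1 ^ 2 * (t 3)⁻¹ :=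
  (Fin.prod_univ_six _).trans (by
    change t 0 ^ (0 : ℤ) * t 1 ^ (2 : ℤ) * t 2 ^ (0 : ℤ) * t 3 ^ (-1 : ℤ) * t 4 ^ (0 : ℤ) * t 5 ^ (0 : ℤ) = _
    simp only [zpow_neg, zpow_ofNat, pow_zero, pow_one, mul_one, one_mul, mul_inv_rev, mul_comm, mul_left_comm, mul_assoc])

theorem carE6_2 (t : Fin 6 → A) : ∏ j : Nd chevE6, t j ^ RGD.carM chevE6 j ⟨2, by decide⟩ = t 2 ^ 2 * (t 0 * t 3)⁻¹ :=
  (Fin.prod_univ_six _).trans (by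
    change t 0 ^ (-1 : ℤ) * t 1 ^ (0 : ℤ) * t 2 ^ (2 : ℤ) * t 3 ^ (-1 : ℤ) * t 4 ^ (0 : ℤ) * t 5 ^ (0 : ℤ) = _
    simp only [zpow_neg, zpow_ofNat, pow_zero, pow_one, mul_one, one_mul, mul_inv_rev, mul_comm, mul_left_comm, mul_assoc])

theorem carE6_3 (t : Fin 6 → A) : ∏ j : Nd chevE6, t j ^ RGD.carM chevE6 j ⟨3, by decide⟩ = t 3 ^ 2 * (t 1 * t 2 * t 4)⁻¹ :=
  (Fin.prod_univ_six _).trans (by
    change t 0 ^ (0 : ℤ) * t 1 ^ (-1 : ℤ) * t 2 ^ (-1 : ℤ) * t 3 ^ (2 : ℤ) * t 4 ^ (-1 : ℤ) * t 5 ^ (0 : ℤ) = _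
    simp only [zpow_neg, zpow_ofNat, pow_zero, pow_one, mul_one, one_mul, mul_inv_rev, mul_comm, mul_left_comm, mul_assoc])

theorem carE6_4 (t : Fin 6 → A) : ∏ j : Nd chevE6, t j ^ RGD.carM chevE6 j ⟨4, by decide⟩ = t 4 ^ 2 * (t 3 * t 5)⁻¹ :=
  (Fin.prod_univ_six _).trans (by
    change t 0 ^ (0 : ℤ) * t 1 ^ (0 : ℤ) * t 2 ^ (0 : ℤ) * t 3 ^ (-1 : ℤ) * t 4 ^ (2 : ℤ) * t 5 ^ (-1 : ℤ) = _
    simp only [zpow_neg, zpow_ofNat, pow_zero, pow_one, mul_one, one_mul, mul_inv_rev, mul_comm, mul_left_comm, mul_assoc])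

theorem carE6_5 (t : Fin 6 → A) : ∏ j : Nd chevE6, t j ^ RGD.carM chevE6 j ⟨5, by decide⟩ = t 5 ^ 2 * (t 4)⁻¹ :=
  (Fin.prod_univ_six _).trans (by
    change t 0 ^ (0 : ℤ) * t 1 ^ (0 : ℤ) * t 2 ^ (0 : ℤ) * t 3 ^ (0 : ℤ) * t 4 ^ (-1 : ℤ) * t 5 ^ (2 : ℤ) = _
    simp only [zpow_neg, zpow_ofNat, pow_zero, pow_one, mul_one, one_mul, mul_inv_rev, mul_comm, mul_left_comm, mul_assoc])

end Cfsg.Agent.Tw
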