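import Cfsg.Agent.Tw.Rank
import Cfsg.Agent.Chev.ReflE8

/-! Involution class data, E8. -/

set_option autoImplicit false

namespace Cfsg.Agent.Tw

open Cfsg.Lie Cfsg.Agent.Chev

variable {F : Type*} [Field F] {G : Type*} [Group G] {S : Sys certE8 F G}

/-- tables -/
def tabE8 : Tab where
  f := reflE8
  ρ r := r
  π r := r
  ow := [[0], [1], [2], [3], [4], [5], [6], [7]]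
  l0 := [0, 1, 2, 0, 3, 1, 2, 0, 3, 2, 4, 3, 1, 2, 0, 3, 2, 4, 3, 1, 5, 4, 3, 1, 2, 0, 3, 2, 4, 3, 1, 5, 4, 3, 2, 0, 6, 5, 4, 3, 1, 2, 0, 3, 2, 4, 3, 1, 5, 4, 3, 2, 0, 6, 5, 4, 3, 1, 2, 3, 4, 5, 6, 7, 6, 5, 4, 3, 1, 2, 0, 3, 2, 4, 3, 1, 5, 4, 3, 2, 0, 6, 5, 4, 3, 1, 2, 3, 4, 5, 6, 7, 6, 5, 4, 3, 1, 2, 0, 3, 2, 4, 3, 1, 5, 4, 3, 2, 0, 6, 5, 4, 3, 1, 2, 3, 4, 5, 6, 7]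
  ref := true

theorem l0E8 : tabE8.okL chevE8 (2 ^ chevE8.rank - 1) tabE8.l0 = true := by decide +kernel

/-- canonical words -/
def csE8 : List (List (List ℕ × ℕ)) := [[], [([], 7), ([], 5), ([], 3), ([1, 2], 3), ([4, 3, 1, 2, 3, 4], 5), ([6, 5, 4, 3, 1, 2, 3, 4, 5, 6], 7), ([2, 0, 3, 2, 4, 3, 1, 5, 4, 3, 2, 0, 6, 5, 4, 3, 1, 2, 3, 4, 5, 6], 7), ([0, 1, 3, 2, 4, 3, 1, 5, 4, 3, 2, 0, 6, 5, 4, 3, 1, 2, 3, 4, 5, 6], 7)], [([], 6), ([], 4), ([], 2), ([], 1), ([3, 1, 2, 3], 4), ([5, 4, 3, 1, 2, 3, 4, 5], 6), ([0, 2, 3, 1, 4, 3, 2, 0, 5, 4, 3, 1, 2, 3, 4, 5], 6)], [([], 6), ([], 4), ([], 2), ([], 1), ([3, 1, 2, 3], 4), ([5, 4, 3, 1, 2, 3, 4, 5], 6)], [([], 6), ([], 4), ([], 2),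 ([], 1), ([3, 1, 2, 3], 4)], [([], 4), ([], 2), ([], 1), ([3, 1, 2, 3], 4)], [([], 7), ([], 4), ([], 2), ([], 1)], [([], 7), ([], 4), ([], 1)], [([], 2), ([], 1)], [([], 7)]]

/-- data for the sets of nodes -/
def dJE8 : List (List ℕ × ℕ × List ℕ) := [([], 1, []), ([0], 2, [2, 3, 4, 5, 6, 7, 1, 3, 4, 5, 6, 2, 3, 4, 5, 1, 3, 4, 2, 3, 0, 2, 1, 3, 4, 5, 6, 7]), ([1], 2, [3, 4, 5, 6, 7, 2, 3, 4, 5, 6, 0, 2, 3, 4, 5, 1, 3, 4, 2, 3, 0, 2, 1, 3, 4, 5, 6, 7]), ([0, 1], 3, [2, 3, 4, 5, 6, 7, 1, 3, 4, 5, 6, 2, 3, 4, 5, 1, 3, 4, 2, 3, 0, 2, 1, 3, 4, 5, 6, 7, 5, 4, 3, 2, 1, 3, 4, 5, 0, 2, 3, 4, 1, 3, 2, 0]), ([2], 2, [3, 4, 5, 6, 7, 1, 3, 4, 5, 6, 0, 2, 3, 4, 5, 1, 3, 4, 2, 3, 0, 2, 1,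 3, 4, 5, 6, 7]), ([0, 2, 0], 99, []), ([1, 2], 3, [3, 4, 5, 6, 7, 1, 3, 4, 5, 6, 0, 2, 3, 4, 5, 1, 3, 4, 2, 3, 0, 2, 1, 3, 4, 5, 6, 7, 5, 4, 3, 2, 1, 3, 4, 5, 0, 2, 3, 4, 1, 3, 2, 0]), ([0, 1, 2, 0], 99, []), ([3], 2, [4, 5, 6, 7, 2, 1, 3, 4, 5, 6, 0, 2, 3, 4, 5, 1, 3, 4, 2, 3, 0, 2, 1, 3, 4, 5, 6, 7]), ([0, 3], 3, [4, 5, 6, 7, 2, 1, 3, 4, 5, 6, 0, 2, 3, 4, 5, 1, 3, 4, 2, 3, 0, 2, 1, 3, 4, 5, 6, 7, 6, 4, 3, 2, 1, 3, 4, 5, 0, 2, 3, 4, 1, 3, 2, 0]), ([1, 3, 1], 99, []), ([0, 1, 3, 1], 99, []), ([2, 3, 2], 99, []), ([0, 2, 0, 3, 2, 0], 99, []), ([1, 2, 3, 1, 2, 3], 99, []), ([0, 1, 2, 0, 3, 1, 2, 0, 3, 2], 99, []), ([4], 2, [5, 6, 7, 3, 2, 1, 3, 4, 5, 6, 0, 2, 3, 4, 5, 1, 3, 4,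 2, 3, 0, 2, 1, 3, 4, 5, 6, 7]), ([0, 4], 3, [5, 6, 7, 3, 2, 1, 3, 4, 5, 6, 0, 2, 3, 4, 5, 1, 3, 4, 2, 3, 0, 2, 1, 3, 4, 5, 6, 7, 6, 4, 3, 2, 1, 3, 4, 5, 0, 2, 3, 4, 1, 3, 2, 0]), ([1, 4], 3, [5, 6, 7, 3, 2, 1, 3, 4, 5, 6, 0, 2, 3, 4, 5, 1, 3, 4, 2, 3, 0, 2, 1, 3, 4, 5, 6, 7, 3, 4, 5, 6, 2, 3, 4, 5, 0, 2, 3, 4, 1, 3, 2, 0]), ([0, 1, 4], 4, [5, 6, 7, 3, 2, 1, 3, 4, 5, 6, 0, 2, 3, 4, 5, 1, 3, 4, 2, 3, 0, 2, 1, 3, 4, 5, 6, 7, 3, 4, 2, 3, 0, 2, 1, 3, 4, 5, 6, 5, 4, 3, 0, 2, 1, 3, 4, 5, 1, 3, 2, 0]), ([2, 4], 3, [5, 6, 7, 3, 2, 1, 3, 4, 5, 6, 0, 2, 3, 4, 5, 1, 3, 4, 2, 3, 0, 2, 1, 3, 4, 5, 6, 7, 5, 6, 3, 2, 1, 3, 4, 5, 0, 2, 3, 4, 1, 3, 2, 0]), ([0, 2, 0, 4], 99, []), ([1, 2, 4],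 4, [5, 6, 7, 3, 2, 1, 3, 4, 5, 6, 0, 2, 3, 4, 5, 1, 3, 4, 2, 3, 0, 2, 1, 3, 4, 5, 6, 7, 5, 3, 4, 2, 3, 0, 2, 1, 3, 4, 5, 6, 5, 4, 3, 2, 1, 3, 4, 5, 1, 3, 2, 0]), ([0, 1, 2, 0, 4], 99, []), ([3, 4, 3], 99, []), ([0, 3, 4, 3], 99, []), ([1, 3, 1, 4, 3, 1], 99, []), ([0, 1, 3, 1, 4, 3, 1], 99, []), ([2, 3, 2, 4, 3, 2], 99, []), ([0, 2, 0, 3, 2, 0, 4, 3, 2, 0], 99, []), ([1, 2, 3, 1, 2, 3, 4, 3, 1, 2, 3, 4], 5, [5, 6, 7, 4, 5, 6, 0, 2, 3, 4, 5, 1, 3, 4, 2, 3, 0, 2, 1, 3, 4, 5, 6, 7, 5, 3, 4, 2, 3, 0, 2, 1, 3, 4, 5, 6, 2, 3, 0, 2, 1, 3, 4, 5, 1, 3, 2, 0]), ([0, 1, 2, 0, 3, 1, 2, 0, 3, 2, 4, 3, 1, 2, 0, 3, 2, 4, 3, 1], 99, []), ([5], 2, [6, 7, 4, 3, 2, 1, 3, 4, 5, 6, 0, 2, 3, 4,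 5, 1, 3, 4, 2, 3, 0, 2, 1, 3, 4, 5, 6, 7]), ([0, 5], 3, [6, 7, 4, 3, 2, 1, 3, 4, 5, 6, 0, 2, 3, 4, 5, 1, 3, 4, 2, 3, 0, 2, 1, 3, 4, 5, 6, 7, 6, 4, 3, 2, 1, 3, 4, 5, 0, 2, 3, 4, 1, 3, 2, 0]), ([1, 5], 3, [6, 7, 4, 3, 2, 1, 3, 4, 5, 6, 0, 2, 3, 4, 5, 1, 3, 4, 2, 3, 0, 2, 1, 3, 4, 5, 6, 7, 3, 4, 5, 6, 2, 3, 4, 5, 0, 2, 3, 4, 1, 3, 2, 0]), ([0, 1, 5], 4, [6, 7, 4, 3, 2, 1, 3, 4, 5, 6, 0, 2, 3, 4, 5, 1, 3, 4, 2, 3, 0, 2, 1, 3, 4, 5, 6, 7, 3, 4, 2, 3, 0, 2, 1, 3, 4, 5, 6, 5, 4, 3, 0, 2, 1, 3, 4, 5, 1, 3, 2, 0]), ([2, 5], 3, [6, 7, 4, 3, 2, 1, 3, 4, 5, 6, 0, 2, 3, 4, 5, 1, 3, 4, 2, 3, 0, 2, 1, 3, 4, 5, 6, 7, 5, 6, 3, 2, 1, 3, 4, 5, 0, 2, 3, 4, 1, 3, 2, 0]), ([0, 2, 0, 5], 99, []),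 ([1, 2, 5], 4, [6, 7, 4, 3, 2, 1, 3, 4, 5, 6, 0, 2, 3, 4, 5, 1, 3, 4, 2, 3, 0, 2, 1, 3, 4, 5, 6, 7, 5, 3, 4, 2, 3, 0, 2, 1, 3, 4, 5, 6, 5, 4, 3, 2, 1, 3, 4, 5, 1, 3, 2, 0]), ([0, 1, 2, 0, 5], 99, []), ([3, 5], 3, [6, 7, 4, 3, 2, 1, 3, 4, 5, 6, 0, 2, 3, 4, 5, 1, 3, 4, 2, 3, 0, 2, 1, 3, 4, 5, 6, 7, 4, 5, 6, 2, 1, 3, 4, 5, 0, 2, 3, 4, 1, 3, 2, 0]), ([0, 3, 5], 4, [6, 7, 4, 3, 2, 1, 3, 4, 5, 6, 0, 2, 3, 4, 5, 1, 3, 4, 2, 3, 0, 2, 1, 3, 4, 5, 6, 7, 4, 2, 3, 0, 2, 1, 3, 4, 5, 6, 5, 4, 2, 3, 0, 2, 1, 3, 4, 5, 4, 3, 2, 0]), ([1, 3, 1, 5], 99, []), ([0, 1, 3, 1, 5], 99, []), ([2, 3, 2, 5], 99, []), ([0, 2, 0, 3, 2, 0, 5], 99, []), ([1, 2, 3, 1, 2, 3, 5], 99, []), ([0, 1, 2, 0, 3, 1,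 2, 0, 3, 2, 5], 99, []), ([4, 5, 4], 99, []), ([0, 4, 5, 4], 99, []), ([1, 4, 5, 4], 99, []), ([0, 1, 4, 5, 4], 99, []), ([2, 4, 5, 4], 99, []), ([0, 2, 0, 4, 5, 4], 99, []), ([1, 2, 4, 5, 4], 99, []), ([0, 1, 2, 0, 4, 5, 4], 99, []), ([3, 4, 3, 5, 4, 3], 99, []), ([0, 3, 4, 3, 5, 4, 3], 99, []), ([1, 3, 1, 4, 3, 1, 5, 4, 3, 1], 99, []), ([0, 1, 3, 1, 4, 3, 1, 5, 4, 3, 1], 99, []), ([2, 3, 2, 4, 3, 2, 5, 4, 3, 2], 99, []), ([0, 2, 0, 3, 2, 0, 4, 3, 2, 0, 5, 4, 3, 2, 0], 99, []), ([1, 2, 3, 1, 2, 3, 4, 3, 1, 2, 3, 4, 5, 4, 3, 1, 2, 3, 4, 5], 99, []), ([0, 1, 2, 0, 3, 1, 2, 0, 3, 2, 4, 3, 1, 2, 0, 3, 2, 4, 3, 1, 5, 4, 3, 1, 2, 0, 3, 2, 4, 3, 1, 5, 4, 3, 2, 0], 99, []), ([6],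 2, [7, 5, 4, 3, 2, 1, 3, 4, 5, 6, 0, 2, 3, 4, 5, 1, 3, 4, 2, 3, 0, 2, 1, 3, 4, 5, 6, 7]), ([0, 6], 3, [7, 5, 4, 3, 2, 1, 3, 4, 5, 6, 0, 2, 3, 4, 5, 1, 3, 4, 2, 3, 0, 2, 1, 3, 4, 5, 6, 7, 6, 4, 3, 2, 1, 3, 4, 5, 0, 2, 3, 4, 1, 3, 2, 0]), ([1, 6], 3, [7, 5, 4, 3, 2, 1, 3, 4, 5, 6, 0, 2, 3, 4, 5, 1, 3, 4, 2, 3, 0, 2, 1, 3, 4, 5, 6, 7, 3, 4, 5, 6, 2, 3, 4, 5, 0, 2, 3, 4, 1, 3, 2, 0]), ([0, 1, 6], 4, [7, 5, 4, 3, 2, 1, 3, 4, 5, 6, 0, 2, 3, 4, 5, 1, 3, 4, 2, 3, 0, 2, 1, 3, 4, 5, 6, 7, 3, 4, 2, 3, 0, 2, 1, 3, 4, 5, 6, 5, 4, 3, 0, 2, 1, 3, 4, 5, 1, 3, 2, 0]), ([2, 6], 3, [7, 5, 4, 3, 2, 1, 3, 4, 5, 6, 0, 2, 3, 4, 5, 1, 3, 4, 2, 3, 0, 2, 1, 3, 4, 5, 6, 7, 5, 6, 3, 2, 1, 3, 4, 5, 0,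 2, 3, 4, 1, 3, 2, 0]), ([0, 2, 0, 6], 99, []), ([1, 2, 6], 4, [7, 5, 4, 3, 2, 1, 3, 4, 5, 6, 0, 2, 3, 4, 5, 1, 3, 4, 2, 3, 0, 2, 1, 3, 4, 5, 6, 7, 5, 3, 4, 2, 3, 0, 2, 1, 3, 4, 5, 6, 5, 4, 3, 2, 1, 3, 4, 5, 1, 3, 2, 0]), ([0, 1, 2, 0, 6], 99, []), ([3, 6], 3, [7, 5, 4, 3, 2, 1, 3, 4, 5, 6, 0, 2, 3, 4, 5, 1, 3, 4, 2, 3, 0, 2, 1, 3, 4, 5, 6, 7, 4, 5, 6, 2, 1, 3, 4, 5, 0, 2, 3, 4, 1, 3, 2, 0]), ([0, 3, 6], 4, [7, 5, 4, 3, 2, 1, 3, 4, 5, 6, 0, 2, 3, 4, 5, 1, 3, 4, 2, 3, 0, 2, 1, 3, 4, 5, 6, 7, 4, 2, 3, 0, 2, 1, 3, 4, 5, 6, 5, 4, 2, 3, 0, 2, 1, 3, 4, 5, 4, 3, 2, 0]), ([1, 3, 1, 6], 99, []), ([0, 1, 3, 1, 6], 99, []), ([2, 3, 2, 6], 99, []), ([0, 2, 0, 3, 2, 0, 6], 99, []), ([1,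 2, 3, 1, 2, 3, 6], 99, []), ([0, 1, 2, 0, 3, 1, 2, 0, 3, 2, 6], 99, []), ([4, 6], 3, [7, 5, 4, 3, 2, 1, 3, 4, 5, 6, 0, 2, 3, 4, 5, 1, 3, 4, 2, 3, 0, 2, 1, 3, 4, 5, 6, 7, 3, 4, 5, 6, 1, 3, 4, 5, 0, 2, 3, 4, 1, 3, 2, 0]), ([0, 4, 6], 4, [7, 5, 4, 3, 2, 1, 3, 4, 5, 6, 0, 2, 3, 4, 5, 1, 3, 4, 2, 3, 0, 2, 1, 3, 4, 5, 6, 7, 4, 3, 0, 2, 1, 3, 4, 5, 6, 5, 3, 4, 2, 3, 0, 2, 1, 3, 4, 5, 4, 3, 2, 0]), ([1, 4, 6], 4, [7, 5, 4, 3, 2, 1, 3, 4, 5, 6, 0, 2, 3, 4, 5, 1, 3, 4, 2, 3, 0, 2, 1, 3, 4, 5, 6, 7, 3, 4, 5, 6, 0, 2, 3, 4, 5, 1, 3, 4, 2, 3, 0, 2, 1, 3, 4, 5, 6, 3, 4, 2, 3, 0, 2, 1, 3, 4, 3, 0, 2, 1, 3, 2, 1]), ([0, 1, 4, 6], 6, [5, 3, 4, 2, 3, 0, 2, 1, 3, 4, 5, 6, 7, 6, 5, 4, 3, 2, 1,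 3, 4, 5, 6, 0, 2, 3, 4, 5, 1, 3, 4, 2, 3, 0, 2, 1, 3, 4, 5, 6, 5, 4, 3, 2, 1, 3, 4, 5, 3, 4, 3, 0, 2, 1, 3, 0]), ([2, 4, 6], 4, [7, 5, 4, 3, 2, 1, 3, 4, 5, 6, 0, 2, 3, 4, 5, 1, 3, 4, 2, 3, 0, 2, 1, 3, 4, 5, 6, 7, 3, 0, 2, 1, 3, 4, 5, 6, 4, 5, 3, 4, 2, 3, 0, 2, 1, 3, 4, 5, 4, 3, 2, 0]), ([0, 2, 0, 4, 6], 99, []), ([1, 2, 4, 6], 6, [5, 3, 4, 2, 3, 0, 2, 1, 3, 4, 5, 6, 7, 6, 5, 4, 3, 2, 1, 3, 4, 5, 6, 0, 2, 3, 4, 5, 1, 3, 4, 2, 3, 0, 2, 1, 3, 4, 5, 6, 5, 4, 3, 2, 1, 3, 4, 5, 4, 2, 3, 0, 2, 1, 3, 0]), ([0, 1, 2, 0, 4, 6], 99, []), ([3, 4, 3, 6], 99, []), ([0, 3, 4, 3, 6], 99, []), ([1, 3, 1, 4, 3, 1, 6], 99, []), ([0, 1, 3, 1, 4, 3, 1, 6], 99, []), ([2, 3, 2, 4, 3, 2, 6], 99, []),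 ([0, 2, 0, 3, 2, 0, 4, 3, 2, 0, 6], 99, []), ([1, 2, 3, 1, 2, 3, 4, 3, 1, 2, 3, 4, 6], 7, [5, 4, 3, 0, 2, 1, 3, 4, 5, 6, 7, 6, 5, 4, 3, 2, 1, 3, 4, 5, 6, 0, 2, 3, 4, 5, 1, 3, 4, 2, 3, 0, 2, 1, 3, 4, 5, 6, 5, 4, 3, 2, 1, 3, 4, 5, 2, 3, 4, 0, 2, 3]), ([0, 1, 2, 0, 3, 1, 2, 0, 3, 2, 4, 3, 1, 2, 0, 3, 2, 4, 3, 1, 6], 99, []), ([5, 6, 5], 99, []), ([0, 5, 6, 5], 99, []), ([1, 5, 6, 5], 99, []), ([0, 1, 5, 6, 5], 99, []), ([2, 5, 6, 5], 99, []), ([0, 2, 0, 5, 6, 5], 99, []), ([1, 2, 5, 6, 5], 99, []), ([0, 1, 2, 0, 5, 6, 5], 99, []), ([3, 5, 6, 5], 99, []), ([0, 3, 5, 6, 5], 99, []), ([1, 3, 1, 5, 6, 5], 99, []), ([0, 1, 3, 1, 5, 6, 5], 99, []), ([2, 3, 2, 5, 6, 5], 99, []), ([0,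 2, 0, 3, 2, 0, 5, 6, 5], 99, []), ([1, 2, 3, 1, 2, 3, 5, 6, 5], 99, []), ([0, 1, 2, 0, 3, 1, 2, 0, 3, 2, 5, 6, 5], 99, []), ([4, 5, 4, 6, 5, 4], 99, []), ([0, 4, 5, 4, 6, 5, 4], 99, []), ([1, 4, 5, 4, 6, 5, 4], 99, []), ([0, 1, 4, 5, 4, 6, 5, 4], 99, []), ([2, 4, 5, 4, 6, 5, 4], 99, []), ([0, 2, 0, 4, 5, 4, 6, 5, 4], 99, []), ([1, 2, 4, 5, 4, 6, 5, 4], 99, []), ([0, 1, 2, 0, 4, 5, 4, 6, 5, 4], 99, []), ([3, 4, 3, 5, 4, 3, 6, 5, 4, 3], 99, []), ([0, 3, 4, 3, 5, 4, 3, 6, 5, 4, 3], 99, []), ([1, 3, 1, 4, 3, 1, 5, 4, 3, 1, 6, 5, 4, 3, 1], 99, []), ([0, 1, 3, 1, 4, 3, 1, 5, 4, 3, 1, 6, 5, 4, 3, 1], 99, []), ([2, 3, 2, 4, 3, 2, 5, 4, 3, 2, 6, 5, 4, 3, 2], 99, []), ([0, 2, 0, 3, 2,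 0, 4, 3, 2, 0, 5, 4, 3, 2, 0, 6, 5, 4, 3, 2, 0], 99, []), ([1, 2, 3, 1, 2, 3, 4, 3, 1, 2, 3, 4, 5, 4, 3, 1, 2, 3, 4, 5, 6, 5, 4, 3, 1, 2, 3, 4, 5, 6], 8, [7, 6, 0, 2, 3, 4, 5, 1, 3, 4, 2, 3, 0, 2, 1, 3, 4, 5, 6, 7, 5, 4, 3, 0, 2, 1, 3, 4, 5, 6, 0, 2, 1, 3, 4, 5, 2, 1, 3, 4, 2, 1, 3, 0]), ([0, 1, 2, 0, 3, 1, 2, 0, 3, 2, 4, 3, 1, 2, 0, 3, 2, 4, 3, 1, 5, 4, 3, 1, 2, 0, 3, 2, 4, 3, 1, 5, 4, 3, 2, 0, 6, 5, 4, 3, 1, 2, 0, 3, 2, 4, 3, 1, 5, 4, 3, 2, 0, 6, 5, 4, 3, 1, 2, 3, 4, 5, 6], 9, [7, 6, 5, 4, 3, 2, 1, 3, 4, 5, 6, 0, 2, 3, 4, 5, 1, 3, 4, 2, 3, 0, 2, 1, 3, 4, 5, 6]), ([7], 2, [6, 5, 4, 3, 2, 1, 3, 4, 5, 6, 0, 2, 3, 4, 5, 1, 3, 4, 2, 3, 0, 2, 1, 3, 4, 5, 6, 7]), ([0, 7], 3, [6,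 5, 4, 3, 2, 1, 3, 4, 5, 6, 0, 2, 3, 4, 5, 1, 3, 4, 2, 3, 0, 2, 1, 3, 4, 5, 6, 7, 6, 4, 3, 2, 1, 3, 4, 5, 0, 2, 3, 4, 1, 3, 2, 0]), ([1, 7], 3, [6, 5, 4, 3, 2, 1, 3, 4, 5, 6, 0, 2, 3, 4, 5, 1, 3, 4, 2, 3, 0, 2, 1, 3, 4, 5, 6, 7, 3, 4, 5, 6, 2, 3, 4, 5, 0, 2, 3, 4, 1, 3, 2, 0]), ([0, 1, 7], 4, [6, 5, 4, 3, 2, 1, 3, 4, 5, 6, 0, 2, 3, 4, 5, 1, 3, 4, 2, 3, 0, 2, 1, 3, 4, 5, 6, 7, 3, 4, 2, 3, 0, 2, 1, 3, 4, 5, 6, 5, 4, 3, 0, 2, 1, 3, 4, 5, 1, 3, 2, 0]), ([2, 7], 3, [6, 5, 4, 3, 2, 1, 3, 4, 5, 6, 0, 2, 3, 4, 5, 1, 3, 4, 2, 3, 0, 2, 1, 3, 4, 5, 6, 7, 5, 6, 3, 2, 1, 3, 4, 5, 0, 2, 3, 4, 1, 3, 2, 0]), ([0, 2, 0, 7], 99, []), ([1, 2, 7], 4, [6, 5, 4, 3, 2, 1, 3, 4, 5, 6, 0, 2, 3, 4, 5,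 1, 3, 4, 2, 3, 0, 2, 1, 3, 4, 5, 6, 7, 5, 3, 4, 2, 3, 0, 2, 1, 3, 4, 5, 6, 5, 4, 3, 2, 1, 3, 4, 5, 1, 3, 2, 0]), ([0, 1, 2, 0, 7], 99, []), ([3, 7], 3, [6, 5, 4, 3, 2, 1, 3, 4, 5, 6, 0, 2, 3, 4, 5, 1, 3, 4, 2, 3, 0, 2, 1, 3, 4, 5, 6, 7, 4, 5, 6, 2, 1, 3, 4, 5, 0, 2, 3, 4, 1, 3, 2, 0]), ([0, 3, 7], 4, [6, 5, 4, 3, 2, 1, 3, 4, 5, 6, 0, 2, 3, 4, 5, 1, 3, 4, 2, 3, 0, 2, 1, 3, 4, 5, 6, 7, 4, 2, 3, 0, 2, 1, 3, 4, 5, 6, 5, 4, 2, 3, 0, 2, 1, 3, 4, 5, 4, 3, 2, 0]), ([1, 3, 1, 7], 99, []), ([0, 1, 3, 1, 7], 99, []), ([2, 3, 2, 7], 99, []), ([0, 2, 0, 3, 2, 0, 7], 99, []), ([1, 2, 3, 1, 2, 3, 7], 99, []), ([0, 1, 2, 0, 3, 1, 2, 0, 3, 2, 7], 99, []), ([4, 7], 3, [6, 5, 4, 3, 2, 1, 3, 4,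 5, 6, 0, 2, 3, 4, 5, 1, 3, 4, 2, 3, 0, 2, 1, 3, 4, 5, 6, 7, 3, 4, 5, 6, 1, 3, 4, 5, 0, 2, 3, 4, 1, 3, 2, 0]), ([0, 4, 7], 4, [6, 5, 4, 3, 2, 1, 3, 4, 5, 6, 0, 2, 3, 4, 5, 1, 3, 4, 2, 3, 0, 2, 1, 3, 4, 5, 6, 7, 4, 3, 0, 2, 1, 3, 4, 5, 6, 5, 3, 4, 2, 3, 0, 2, 1, 3, 4, 5, 4, 3, 2, 0]), ([1, 4, 7], 4, [6, 5, 4, 3, 2, 1, 3, 4, 5, 6, 0, 2, 3, 4, 5, 1, 3, 4, 2, 3, 0, 2, 1, 3, 4, 5, 6, 7, 3, 4, 5, 6, 0, 2, 3, 4, 5, 1, 3, 4, 2, 3, 0, 2, 1, 3, 4, 5, 4, 3, 2, 0]), ([0, 1, 4, 7], 6, [3, 2, 1, 3, 4, 5, 6, 7, 5, 4, 3, 2, 1, 3, 4, 5, 6, 0, 2, 3, 4, 5, 1, 3, 4, 2, 3, 0, 2, 1, 3, 4, 5, 6, 7, 2, 1, 3, 4, 5, 6, 5, 4, 3, 2, 1, 3, 4, 5, 4, 2, 3, 0, 2, 1, 3, 4, 0, 2, 1]), ([2, 4, 7], 4, [6, 5, 4,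 3, 2, 1, 3, 4, 5, 6, 0, 2, 3, 4, 5, 1, 3, 4, 2, 3, 0, 2, 1, 3, 4, 5, 6, 7, 3, 0, 2, 1, 3, 4, 5, 6, 4, 5, 3, 4, 2, 3, 0, 2, 1, 3, 4, 5, 4, 3, 2, 0]), ([0, 2, 0, 4, 7], 99, []), ([1, 2, 4, 7], 6, [3, 0, 2, 1, 3, 4, 5, 6, 7, 5, 4, 3, 2, 1, 3, 4, 5, 6, 0, 2, 3, 4, 5, 1, 3, 4, 2, 3, 0, 2, 1, 3, 4, 5, 6, 7, 2, 3, 4, 5, 6, 5, 4, 3, 2, 1, 3, 4, 5, 4, 2, 3, 0, 2, 1, 3, 4, 0, 2, 1]), ([0, 1, 2, 0, 4, 7], 99, []), ([3, 4, 3, 7], 99, []), ([0, 3, 4, 3, 7], 99, []), ([1, 3, 1, 4, 3, 1, 7], 99, []), ([0, 1, 3, 1, 4, 3, 1, 7], 99, []), ([2, 3, 2, 4, 3, 2, 7], 99, []), ([0, 2, 0, 3, 2, 0, 4, 3, 2, 0, 7], 99, []), ([1, 2, 3, 1, 2, 3, 4, 3, 1, 2, 3, 4, 7], 7, [5, 6, 7, 5, 4, 3, 2, 1, 3, 4, 5,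 6, 0, 2, 3, 4, 5, 1, 3, 4, 2, 3, 0, 2, 1, 3, 4, 5, 6, 7, 5, 4, 3, 2, 1, 3, 4, 5, 6, 5, 4, 3, 2, 1, 3, 4, 5, 0, 2, 3, 4, 0, 2, 3, 1]), ([0, 1, 2, 0, 3, 1, 2, 0, 3, 2, 4, 3, 1, 2, 0, 3, 2, 4, 3, 1, 7], 99, []), ([5, 7], 3, [6, 5, 4, 3, 2, 1, 3, 4, 5, 6, 0, 2, 3, 4, 5, 1, 3, 4, 2, 3, 0, 2, 1, 3, 4, 5, 6, 7, 2, 3, 4, 5, 6, 1, 3, 4, 5, 2, 3, 4, 1, 3, 2, 0]), ([0, 5, 7], 4, [6, 5, 4, 3, 2, 1, 3, 4, 5, 6, 0, 2, 3, 4, 5, 1, 3, 4, 2, 3, 0, 2, 1, 3, 4, 5, 6, 7, 4, 3, 2, 1, 3, 4, 5, 6, 5, 1, 3, 4, 2, 3, 0, 2, 1, 3, 4, 5, 4, 3, 2, 0]), ([1, 5, 7], 4, [6, 5, 4, 3, 2, 1, 3, 4, 5, 6, 0, 2, 3, 4, 5, 1, 3, 4, 2, 3, 0, 2, 1, 3, 4, 5, 6, 7, 2, 3, 4, 5, 6, 2, 3, 4, 5, 1, 3, 4, 2, 3, 0, 2, 1, 3,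 4, 5, 4, 3, 2, 0]), ([0, 1, 5, 7], 6, [4, 3, 2, 1, 3, 4, 5, 6, 7, 5, 4, 3, 2, 1, 3, 4, 5, 6, 0, 2, 3, 4, 5, 1, 3, 4, 2, 3, 0, 2, 1, 3, 4, 5, 6, 7, 1, 3, 4, 5, 6, 5, 4, 3, 2, 1, 3, 4, 5, 4, 2, 3, 0, 2, 1, 3, 4, 0, 2, 1]), ([2, 5, 7], 4, [6, 5, 4, 3, 2, 1, 3, 4, 5, 6, 0, 2, 3, 4, 5, 1, 3, 4, 2, 3, 0, 2, 1, 3, 4, 5, 6, 7, 3, 2, 1, 3, 4, 5, 6, 4, 5, 1, 3, 4, 2, 3, 0, 2, 1, 3, 4, 5, 4, 3, 2, 0]), ([0, 2, 0, 5, 7], 99, []), ([1, 2, 5, 7], 6, [4, 3, 0, 2, 1, 3, 4, 5, 6, 7, 5, 4, 3, 2, 1, 3, 4, 5, 6, 0, 2, 3, 4, 5, 1, 3, 4, 2, 3, 0, 2, 1, 3, 4, 5, 6, 7, 3, 4, 5, 6, 5, 4, 3, 2, 1, 3, 4, 5, 4, 2, 3, 0, 2, 1, 3, 4, 0, 2, 1]), ([0, 1, 2, 0, 5, 7], 99, []), ([3, 5, 7], 4, [6, 5, 4, 3, 2,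 1, 3, 4, 5, 6, 0, 2, 3, 4, 5, 1, 3, 4, 2, 3, 0, 2, 1, 3, 4, 5, 6, 7, 2, 1, 3, 4, 5, 6, 3, 4, 5, 1, 3, 4, 2, 3, 0, 2, 1, 3, 4, 5, 4, 3, 2, 0]), ([0, 3, 5, 7], 6, [4, 2, 3, 0, 2, 1, 3, 4, 5, 6, 7, 5, 4, 3, 2, 1, 3, 4, 5, 6, 0, 2, 3, 4, 5, 1, 3, 4, 2, 3, 0, 2, 1, 3, 4, 5, 6, 7, 4, 5, 6, 5, 4, 3, 2, 1, 3, 4, 5, 4, 3, 0, 2, 1, 3, 4, 3, 0, 2, 1]), ([1, 3, 1, 5, 7], 99, []), ([0, 1, 3, 1, 5, 7], 99, []), ([2, 3, 2, 5, 7], 99, []), ([0, 2, 0, 3, 2, 0, 5, 7], 99, []), ([1, 2, 3, 1, 2, 3, 5, 7], 99, []), ([0, 1, 2, 0, 3, 1, 2, 0, 3, 2, 5, 7], 99, []), ([4, 5, 4, 7], 99, []), ([0, 4, 5, 4, 7], 99, []), ([1, 4, 5, 4, 7], 99, []), ([0, 1, 4, 5, 4, 7], 99, []), ([2, 4, 5, 4, 7], 99, []),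 ([0, 2, 0, 4, 5, 4, 7], 99, []), ([1, 2, 4, 5, 4, 7], 99, []), ([0, 1, 2, 0, 4, 5, 4, 7], 99, []), ([3, 4, 3, 5, 4, 3, 7], 99, []), ([0, 3, 4, 3, 5, 4, 3, 7], 99, []), ([1, 3, 1, 4, 3, 1, 5, 4, 3, 1, 7], 99, []), ([0, 1, 3, 1, 4, 3, 1, 5, 4, 3, 1, 7], 99, []), ([2, 3, 2, 4, 3, 2, 5, 4, 3, 2, 7], 99, []), ([0, 2, 0, 3, 2, 0, 4, 3, 2, 0, 5, 4, 3, 2, 0, 7], 99, []), ([1, 2, 3, 1, 2, 3, 4, 3, 1, 2, 3, 4, 5, 4, 3, 1, 2, 3, 4, 5, 7], 99, []), ([0, 1, 2, 0, 3, 1, 2, 0, 3, 2, 4, 3, 1, 2, 0, 3, 2, 4, 3, 1, 5, 4, 3, 1, 2, 0, 3, 2, 4, 3, 1, 5, 4, 3, 2, 0, 7], 99, []), ([6, 7, 6], 99, []), ([0, 6, 7, 6], 99, []), ([1, 6, 7, 6], 99, []), ([0, 1, 6, 7, 6], 99, []), ([2, 6, 7, 6], 99, []),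 ([0, 2, 0, 6, 7, 6], 99, []), ([1, 2, 6, 7, 6], 99, []), ([0, 1, 2, 0, 6, 7, 6], 99, []), ([3, 6, 7, 6], 99, []), ([0, 3, 6, 7, 6], 99, []), ([1, 3, 1, 6, 7, 6], 99, []), ([0, 1, 3, 1, 6, 7, 6], 99, []), ([2, 3, 2, 6, 7, 6], 99, []), ([0, 2, 0, 3, 2, 0, 6, 7, 6], 99, []), ([1, 2, 3, 1, 2, 3, 6, 7, 6], 99, []), ([0, 1, 2, 0, 3, 1, 2, 0, 3, 2, 6, 7, 6], 99, []), ([4, 6, 7, 6], 99, []), ([0, 4, 6, 7, 6], 99, []), ([1, 4, 6, 7, 6], 99, []), ([0, 1, 4, 6, 7, 6], 99, []), ([2, 4, 6, 7, 6], 99, []), ([0, 2, 0, 4, 6, 7, 6], 99, []), ([1, 2, 4, 6, 7, 6], 99, []), ([0, 1, 2, 0, 4, 6, 7, 6], 99, []), ([3, 4, 3, 6, 7, 6], 99, []), ([0, 3, 4, 3, 6, 7, 6], 99, []), ([1, 3, 1, 4, 3, 1, 6,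 7, 6], 99, []), ([0, 1, 3, 1, 4, 3, 1, 6, 7, 6], 99, []), ([2, 3, 2, 4, 3, 2, 6, 7, 6], 99, []), ([0, 2, 0, 3, 2, 0, 4, 3, 2, 0, 6, 7, 6], 99, []), ([1, 2, 3, 1, 2, 3, 4, 3, 1, 2, 3, 4, 6, 7, 6], 99, []), ([0, 1, 2, 0, 3, 1, 2, 0, 3, 2, 4, 3, 1, 2, 0, 3, 2, 4, 3, 1, 6, 7, 6], 99, []), ([5, 6, 5, 7, 6, 5], 99, []), ([0, 5, 6, 5, 7, 6, 5], 99, []), ([1, 5, 6, 5, 7, 6, 5], 99, []), ([0, 1, 5, 6, 5, 7, 6, 5], 99, []), ([2, 5, 6, 5, 7, 6, 5], 99, []), ([0, 2, 0, 5, 6, 5, 7, 6, 5], 99, []), ([1, 2, 5, 6, 5, 7, 6, 5], 99, []), ([0, 1, 2, 0, 5, 6, 5, 7, 6, 5], 99, []), ([3, 5, 6, 5, 7, 6, 5], 99, []), ([0, 3, 5, 6, 5, 7, 6, 5], 99, []), ([1, 3, 1, 5, 6, 5, 7, 6, 5], 99, []), ([0, 1,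 3, 1, 5, 6, 5, 7, 6, 5], 99, []), ([2, 3, 2, 5, 6, 5, 7, 6, 5], 99, []), ([0, 2, 0, 3, 2, 0, 5, 6, 5, 7, 6, 5], 99, []), ([1, 2, 3, 1, 2, 3, 5, 6, 5, 7, 6, 5], 99, []), ([0, 1, 2, 0, 3, 1, 2, 0, 3, 2, 5, 6, 5, 7, 6, 5], 99, []), ([4, 5, 4, 6, 5, 4, 7, 6, 5, 4], 99, []), ([0, 4, 5, 4, 6, 5, 4, 7, 6, 5, 4], 99, []), ([1, 4, 5, 4, 6, 5, 4, 7, 6, 5, 4], 99, []), ([0, 1, 4, 5, 4, 6, 5, 4, 7, 6, 5, 4], 99, []), ([2, 4, 5, 4, 6, 5, 4, 7, 6, 5, 4], 99, []), ([0, 2, 0, 4, 5, 4, 6, 5, 4, 7, 6, 5, 4], 99, []), ([1, 2, 4, 5, 4, 6, 5, 4, 7, 6, 5, 4], 99, []), ([0, 1, 2, 0, 4, 5, 4, 6, 5, 4, 7, 6, 5, 4], 99, []), ([3, 4, 3, 5, 4, 3, 6, 5, 4, 3, 7, 6, 5, 4, 3], 99, []), ([0, 3, 4, 3, 5, 4,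 3, 6, 5, 4, 3, 7, 6, 5, 4, 3], 99, []), ([1, 3, 1, 4, 3, 1, 5, 4, 3, 1, 6, 5, 4, 3, 1, 7, 6, 5, 4, 3, 1], 99, []), ([0, 1, 3, 1, 4, 3, 1, 5, 4, 3, 1, 6, 5, 4, 3, 1, 7, 6, 5, 4, 3, 1], 99, []), ([2, 3, 2, 4, 3, 2, 5, 4, 3, 2, 6, 5, 4, 3, 2, 7, 6, 5, 4, 3, 2], 99, []), ([0, 2, 0, 3, 2, 0, 4, 3, 2, 0, 5, 4, 3, 2, 0, 6, 5, 4, 3, 2, 0, 7, 6, 5, 4, 3, 2, 0], 99, []), ([1, 2, 3, 1, 2, 3, 4, 3, 1, 2, 3, 4, 5, 4, 3, 1, 2, 3, 4, 5, 6, 5, 4, 3, 1, 2, 3, 4, 5, 6, 7, 6, 5, 4, 3, 1, 2, 3, 4, 5, 6, 7], 99, []), ([0, 1, 2, 0, 3, 1, 2, 0, 3, 2, 4, 3, 1, 2, 0, 3, 2, 4, 3, 1, 5, 4, 3, 1, 2, 0, 3, 2, 4, 3, 1, 5, 4, 3, 2, 0, 6, 5, 4, 3, 1, 2, 0, 3, 2, 4, 3, 1, 5, 4, 3, 2, 0, 6, 5, 4, 3, 1, 2, 3,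 4, 5, 6, 7, 6, 5, 4, 3, 1, 2, 0, 3, 2, 4, 3, 1, 5, 4, 3, 2, 0, 6, 5, 4, 3, 1, 2, 3, 4, 5, 6, 7, 6, 5, 4, 3, 1, 2, 0, 3, 2, 4, 3, 1, 5, 4, 3, 2, 0, 6, 5, 4, 3, 1, 2, 3, 4, 5, 6, 7], 0, [])]

/-- representatives -/
def repsE8 : List (List ℕ) := [[239], [232, 233], [228, 222, 218], [226, 220, 213, 216]]

/-- reductions -/
def rdE8 : List (ℕ × List (Bool × List ℕ)) := [(0, []), (3, [(false, [0, 2, 3, 4, 5, 6, 7, 1, 3, 4, 5, 6, 3, 2, 1, 3, 4, 5, 0, 2, 3, 4, 2, 3, 0, 2]), (true, [142, 136, 131, 147]), (false, [0, 2, 3, 4, 5, 6, 1, 3, 4, 5, 3, 2, 1, 3, 4, 0, 2, 3, 2, 0]), (true, [142, 136, 131, 147]), (false, [5, 6, 7, 4, 5, 6, 0, 2, 3, 4, 5, 1, 3, 4, 2, 3, 0, 2, 1, 3, 4, 5, 6, 7,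 5, 4, 3, 2, 1, 3, 4, 5]), (true, [142, 136, 131, 147]), (false, [5, 6, 7, 4, 5, 6, 0, 2, 3, 4, 5, 1, 3, 4, 2, 3, 0, 2, 1, 3, 4, 5, 6, 7, 5, 6, 4, 5, 3, 4, 1, 3]), (true, [142, 136, 131, 147]), (false, [1, 3, 4, 5, 6, 2, 3, 4, 5, 1, 3, 4, 2, 3, 0, 2, 1, 3, 4, 5, 6, 7, 2, 1, 3, 4, 5, 6, 2, 1, 3, 4, 5, 3, 4, 0, 2, 1, 3, 0])]), (3, [(false, [0, 2, 3, 4, 5, 6, 1, 3, 4, 5, 3, 2, 1, 3, 4, 0, 2, 3, 2, 0]), (true, [142, 136, 131, 147]), (false, [0, 2, 3, 4, 5, 6, 1, 3, 4, 5, 3, 2, 1, 3, 4, 0, 2, 3, 2, 0]), (true, [142, 136, 131, 147]), (false, [5, 6, 0, 2, 3, 4, 5, 1, 3, 4, 2, 3, 0, 2, 1, 3, 4, 5, 2, 0]), (true, [142, 136, 131, 147]), (false, [5, 6, 7, 3, 2, 1, 3, 4, 5, 6, 0, 2, 3,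 4, 5, 1, 3, 4, 2, 3, 0, 2, 1, 3, 4, 5, 6, 7, 0, 2, 1, 3, 4, 5, 6, 4, 5, 3, 4, 2, 3, 0, 2, 1, 3, 4, 5, 1, 3, 4, 3, 0, 2, 1, 3, 0])]), (3, [(false, [0, 2, 3, 4, 5, 6, 1, 3, 4, 5, 2, 3, 4, 0, 2, 3]), (true, [142, 136, 131, 147]), (false, [0, 2, 3, 4, 5, 6, 1, 3, 4, 5, 3, 2, 1, 3, 4, 0, 2, 3, 2, 0]), (true, [142, 136, 131, 147]), (false, [1, 3, 4, 5, 6, 2, 3, 4, 5, 1, 3, 4, 2, 3, 0, 2, 1, 3, 4, 5, 6, 7, 2, 1, 3, 4, 5, 6, 2, 1, 3, 4, 5, 3, 4, 0, 2, 1, 3, 0])]), (3, [(false, [0, 2, 3, 4, 1, 3, 2, 0]), (true, [142, 136, 131, 147]), (false, [5, 6, 7, 3, 2, 1, 3, 4, 5, 6, 0, 2, 3, 4, 5, 1, 3, 4, 2, 3, 0, 2, 1, 3, 4, 5, 6, 7, 0, 2, 1, 3, 4, 5, 6, 4, 5, 3, 4, 2, 3, 0, 2, 1, 3, 4, 5, 1,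 3, 4, 3, 0, 2, 1, 3, 0])]), (2, [(false, [0, 2, 3, 4, 1, 3, 2, 0]), (true, [142, 136, 131, 147]), (false, [6, 7, 5, 6, 4, 5, 3, 4, 2, 3, 0, 2, 1, 3, 4, 5, 6, 7, 2, 3, 0, 2, 1, 3, 4, 5, 6, 4, 3, 0, 2, 1, 3, 4, 5, 3, 4, 0, 2, 1, 3, 0])]), (3, [(false, [7, 6, 5, 1, 3, 4, 2, 3, 0, 2, 1, 3, 4, 5, 6, 7, 1, 3, 4, 5, 6, 2, 3, 4, 5, 1, 3, 4, 2, 3, 0, 2, 1, 3, 4, 5, 6, 5, 4, 2, 3, 0, 2, 1, 3, 4, 5, 1, 3, 4, 3, 0, 2, 1, 3, 0])]), (2, [(false, [6, 5, 4, 3, 2, 1, 3, 4, 5, 6, 7, 6, 0, 2, 3, 4, 5, 1, 3, 4, 2, 3, 0, 2, 1, 3, 4, 5, 6, 5, 4, 3, 2, 1, 3, 4, 5, 0, 2, 3])]), (1, [(false, [0, 2, 3, 4, 5, 1, 3, 4, 2, 3, 0, 2, 1, 3, 4, 5, 6, 7, 5, 4, 3, 2, 1, 3, 4, 5, 6, 0, 2, 3, 4, 5, 1, 3, 4, 2,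 3, 0])]), (0, [(false, [7, 6, 5, 4, 3, 2, 1, 3, 4, 5, 6, 0, 2, 3, 4, 5, 1, 3, 4, 2, 3, 0, 2, 1, 3, 4, 5, 6])])]

theorem okCE8 : csE8.all (tabE8.okC chevE8) = true := by decide +kernel

theorem okJE8 : allLt (2 ^ chevE8.rank) (fun n => tabE8.okJ chevE8 csE8 n (dJE8.getD n ([], 0, []))) = true := by
  decide +kernel

theorem okRE8 : tabE8.okR chevE8 csE8 repsE8 rdE8 = true := by decide +kernel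

theorem rkE8_0 [CharP F 2] {T : Stb S} {K : Subgroup G} (h : tabE8.Fit T K) :
    rk S (pw S [239]) = 58 :=
  h.rk_eq (c := csE8.getD 9 []) (by decide +kernel) (k := 1) (B := [[0], [0], [0], [0], [0], [0], [0], [1]]) (B' := [[0, 0, 0, 0, 0, 0, 1, 0]]) (L := [[0, 0, 0, 0, 0, 0, 0, 1]]) (R := [[0], [0], [0], [0], [0], [0], [1], [0]])
    (by decide +kernel) (M := (rdE8.getD 9 (0, [])).2) (by decide +kernel)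

theorem rkE8_1 [CharP F 2] {T : Stb S} {K : Subgroup G} (h : tabE8.Fit T K) :
    rk S (pw S [232, 233]) = 92 :=
  h.rk_eq (c := csE8.getD 8 []) (by decide +kernel) (k := 2) (B := [[0, 0], [0, 1], [1, 1], [0, 0], [0, 0], [0, 0], [0, 0], [0, 0]]) (B' := [[1, 0, 0, 0, 0, 0, 0, 0], [0, 0, 0, 1, 0, 0, 0, 0]]) (L := [[0, 1, 1, 0, 0, 0, 0, 0], [0, 1, 0, 0, 0, 0, 0, 0]]) (R := [[1, 0], [0, 0], [0, 0], [0, 1], [0, 0], [0, 0], [0, 0], [0, 0]])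
    (by decide +kernel) (M := (rdE8.getD 8 (0, [])).2) (by decide +kernel)

theorem rkE8_2 [CharP F 2] {T : Stb S} {K : Subgroup G} (h : tabE8.Fit T K) :
    rk S (pw S [228, 222, 218]) = 110 :=
  h.rk_eq (c := csE8.getD 7 []) (by decide +kernel) (k := 3) (B := [[0, 0, 0], [1, 0, 0], [0, 0, 0], [0, 0, 0], [1, 1, 0], [0, 0, 0], [0, 0, 0], [0, 0, 1]]) (B' := [[0, 0, 0, 1, 0, 0, 0, 0], [0, 0, 0, 0, 0, 1, 0, 0], [0, 0, 0, 0, 0, 0, 1, 0]]) (L := [[0, 1, 0, 0, 0, 0, 0, 0], [0, 1, 0, 0, 1, 0, 0, 0], [0, 0, 0, 0, 0, 0, 0, 1]]) (R := [[0, 0, 0], [0, 0, 0], [0, 0, 0], [1, 0, 0], [0, 0, 0], [0, 1, 0], [0, 0, 1], [0, 0, 0]])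
    (by decide +kernel) (M := (rdE8.getD 7 (0, [])).2) (by decide +kernel)

theorem rkE8_3 [CharP F 2] {T : Stb S} {K : Subgroup G} (h : tabE8.Fit T K) :
    rk S (pw S [226, 220, 213, 216]) = 120 :=
  h.rk_eq (c := csE8.getD 6 []) (by decide +kernel) (k := 4) (B := [[0, 0, 0, 0], [0, 1, 0, 0], [1, 1, 0, 0], [0, 0, 0, 0], [0, 1, 1, 0], [0, 0, 0, 0], [0, 0, 0, 0], [0, 0, 0, 1]]) (B' := [[1, 0, 0, 0, 0, 0, 0, 0], [0, 0, 0, 1, 0, 0, 0, 0], [0, 0, 0, 0, 0, 1, 0, 0], [0, 0, 0, 0, 0, 0, 1, 0]]) (L := [[0, 1, 1, 0, 0, 0, 0, 0], [0, 1, 0, 0, 0, 0, 0, 0], [0, 1, 0, 0, 1, 0, 0, 0], [0, 0, 0, 0, 0, 0, 0, 1]]) (R := [[1, 0, 0, 0], [0, 0, 0, 0], [0, 0, 0, 0], [0, 1, 0, 0], [0, 0, 0, 0],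 [0, 0, 1, 0], [0, 0, 0, 1], [0, 0, 0, 0]])
    (by decide +kernel) (M := (rdE8.getD 6 (0, [])).2) (by decide +kernel)

theorem fitE8 : tabE8.Fit (Stb.one S) ⊤ :=
  ⟨Stb.good_one, ssE8, fun _ => rfl, fun _ => rfl, fun _ => rfl, fun _ _ => trivial, l0E8, fun _ => Stb.sep_one⟩

end Cfsg.Agent.Tw
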