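import Cfsg.Agent.CharLib.Central
import Cfsg.Agent.Sz.Ore

/-! Squares of conjugacy classes and characters. -/

set_option autoImplicit false

namespace Cfsg.Agent.Tw

open Cfsg.Agent.CharLib Cfsg.Agent.Sz
open scoped ComplexConjugate

variable {G : Type*} [Group G] [Finite G]

theorem frob_eq_zero {x g : G} (h : ¬ CC x g) :
    ∑ χ : IrrCharacter G, (χ : G → ℂ) x ^ 2 * (χ : G → ℂ) g⁻¹ / (χ : G → ℂ) 1 = 0 := by
  have := Fintype.ofFinite G
  have h1 : ∑ a ∈ cls x, ∑ b ∈ cls x, regChar G (a * (b * g⁻¹)) = 0 :=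
    Finset.sum_eq_zero fun a ha => Finset.sum_eq_zero fun b hb => regChar_of_ne fun e =>
      h ⟨a, b, mem_cls.1 ha, mem_cls.1 hb, (mul_inv_eq_one.1 (by rw [← e, mul_assoc])).symm⟩
  simp only [← sum_degree_mul] at h1
  rw [Finset.sum_comm] at h1
  simp only [Finset.sum_comm (s := cls x) (t := Finset.univ), ← Finset.mul_sum, fun χ : IrrCharacter G => sum_cls_mul χ.2] at h1
  have h2 : ((Subgroup.centralizer ({x} : Set G)).index : ℂ) ^ 2 ≠ 0 := by simpa using Subgroup.index_ne_zero_of_finite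
  refine (mul_eq_zero.1 ?_).resolve_left h2
  rw [Finset.mul_sum, ← h1]
  refine Finset.sum_congr rfl fun χ _ => ?_
  have := isIrr_one_ne_zero χ.2
  simp only [centralChar]
  field_simp

theorem sum_normSq (g : G) : ∑ χ : IrrCharacter G, ‖(χ : G → ℂ) g‖ ^ 2 = Nat.card (Subgroup.centralizer ({g} : Set G)) := by
  have := sum_irr_mul_conj g g
  simp only [IsConj.refl, if_true, Complex.mul_conj, Complex.normSq_eq_norm_sq] at this
  exact_mod_cast this

theorem cc_of_degree {x g : G} {d : ℕ} (hd : ∀ χ, IsIrrCharacter G χ → χ ≠ (fun _ => 1) → ∃ n : ℕ, d ≤ n ∧ χ 1 = n)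
    (h : (Nat.card (Subgroup.centralizer ({x} : Set G)) - 1) ^ 2 * Nat.card (Subgroup.centralizer ({g} : Set G)) < d ^ 2) :
    CC x g := by
  classical
  by_contra hc
  have h1 := frob_eq_zero hc
  let o : IrrCharacter G := ⟨fun _ => 1, isIrr_one⟩
  have h2 := sum_normSq x
  rw [← Finset.add_sum_erase _ _ (Finset.mem_univ o)] at h1 h2
  set c := √(Nat.card (Subgroup.centralizer ({g} : Set G)))
  have h0 : (0 : ℝ) < d := by exact_mod_cast pos_of_ne_zero fun e => by simp [e] at h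
  have h3 : ∀ χ ∈ Finset.univ.erase o, ‖(χ : G → ℂ) x ^ 2 * (χ : G → ℂ) g⁻¹ / (χ : G → ℂ) 1‖ ≤ ‖(χ : G → ℂ) x‖ ^ 2 * (c / d) := by
    intro χ hχ
    obtain ⟨n, h3, h4⟩ := hd χ χ.2 fun e => Finset.ne_of_mem_erase hχ (Subtype.ext e)
    rw [norm_div, norm_mul, norm_pow, mul_div_assoc, h4, ← isChar_conj (isChar_of_irr χ.2), Complex.norm_conj,
      Complex.norm_natCast]
    gcongr
    exact Real.le_sqrt_of_sq_le (sum_normSq g ▸ Finset.single_le_sum (f := fun χ : IrrCharacter G => ‖(χ : G → ℂ) g‖ ^ 2)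
      (fun _ _ => by positivity) (Finset.mem_univ χ))
  have h4 := (norm_sum_le _ _).trans (Finset.sum_le_sum h3)
  simp only [o, one_pow, mul_one, div_one, norm_one] at h1 h2
  rw [← Finset.sum_mul, eq_neg_of_add_eq_zero_right h1, eq_sub_of_add_eq' h2, norm_neg, norm_one, ← mul_div_assoc,
    one_le_div h0] at h4
  have h5 := pow_le_pow_left₀ h0.le h4 2
  rw [mul_pow, Real.sq_sqrt (Nat.cast_nonneg _), ← Nat.cast_pred Nat.card_pos] at h5
  exact h.not_ge (by exact_mod_cast h5)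

end Cfsg.Agent.Tw
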