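import Cfsg.Agent.Tw.Rank
import Cfsg.Agent.Chev.ReflE6

/-! Involution class data, E6. -/

set_option autoImplicit false

namespace Cfsg.Agent.Tw

open Cfsg.Lie Cfsg.Agent.Chev

variable {F : Type*} [Field F] {G : Type*} [Group G] {S : Sys certE6 F G}

/-- tables -/
def tabE6 : Tab where
  f := reflE6
  ρ r := r
  π r := r
  ow := [[0], [1], [2], [3], [4], [5]]
  l0 := [0, 1, 2, 0, 3, 1, 2, 0, 3, 2, 4, 3, 1, 2, 0, 3, 2, 4, 3, 1, 5, 4, 3, 1, 2, 0, 3, 2, 4, 3, 1, 5, 4, 3, 2, 0]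
  ref := true

theorem l0E6 : tabE6.okL chevE6 (2 ^ chevE6.rank - 1) tabE6.l0 = true := by decide +kernel

/-- canonical words -/
def csE6 : List (List (List ℕ × ℕ)) := [[], [([], 4), ([], 2), ([], 1), ([3, 1, 2, 3], 4)], [([], 4), ([], 2), ([], 1)], [([], 2), ([], 1)], [([], 5)]]

/-- data for the sets of nodes -/
def dJE6 : List (List ℕ × ℕ × List ℕ) := [([], 1, [2, 3, 0, 2, 1, 3, 4, 5, 1, 3, 2, 0]), ([0], 99, []), ([1], 2, [2, 3, 0, 2, 1, 3, 4, 5, 1, 3, 4, 0, 2, 1, 3, 0]), ([0, 1], 99, []), ([2], 99, []), ([0, 2, 0], 99, []), ([1, 2], 99, []), ([0, 1, 2, 0], 99, []), ([3], 2, [2, 3, 0, 2, 1, 3, 4, 5, 2, 1, 3, 4, 2, 1, 3, 0]), ([0, 3], 99, []), ([1, 3, 1], 99, []), ([0, 1, 3, 1], 99, []), ([2, 3, 2], 99, []), ([0, 2, 0, 3, 2, 0], 99, []), ([1, 2, 3, 1, 2, 3], 99, []), ([0, 1, 2, 0, 3, 1, 2, 0, 3, 2], 99,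 []), ([4], 99, []), ([0, 4], 99, []), ([1, 4], 99, []), ([0, 1, 4], 99, []), ([2, 4], 99, []), ([0, 2, 0, 4], 99, []), ([1, 2, 4], 99, []), ([0, 1, 2, 0, 4], 99, []), ([3, 4, 3], 99, []), ([0, 3, 4, 3], 99, []), ([1, 3, 1, 4, 3, 1], 99, []), ([0, 1, 3, 1, 4, 3, 1], 99, []), ([2, 3, 2, 4, 3, 2], 3, [0, 2, 1, 3, 4, 5, 2, 1, 3, 4, 0, 2, 3, 0]), ([0, 2, 0, 3, 2, 0, 4, 3, 2, 0], 99, []), ([1, 2, 3, 1, 2, 3, 4, 3, 1, 2, 3, 4], 99, []), ([0, 1, 2, 0, 3, 1, 2, 0, 3, 2, 4, 3, 1, 2, 0, 3, 2, 4, 3, 1], 99, []), ([5], 99, []), ([0, 5], 99, []), ([1, 5], 99, []), ([0, 1, 5], 99, []), ([2, 5], 99, []), ([0, 2, 0, 5], 99, []), ([1, 2, 5], 99, []), ([0, 1, 2, 0, 5], 99, []), ([3, 5], 99, []), ([0, 3, 5], 99, []), ([1, 3, 1, 5], 99, []), ([0, 1, 3, 1, 5], 99, []), ([2, 3, 2, 5], 99, []), ([0, 2, 0, 3, 2, 0, 5], 99, []), ([1,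 2, 3, 1, 2, 3, 5], 99, []), ([0, 1, 2, 0, 3, 1, 2, 0, 3, 2, 5], 99, []), ([4, 5, 4], 99, []), ([0, 4, 5, 4], 99, []), ([1, 4, 5, 4], 99, []), ([0, 1, 4, 5, 4], 99, []), ([2, 4, 5, 4], 99, []), ([0, 2, 0, 4, 5, 4], 99, []), ([1, 2, 4, 5, 4], 99, []), ([0, 1, 2, 0, 4, 5, 4], 99, []), ([3, 4, 3, 5, 4, 3], 99, []), ([0, 3, 4, 3, 5, 4, 3], 99, []), ([1, 3, 1, 4, 3, 1, 5, 4, 3, 1], 99, []), ([0, 1, 3, 1, 4, 3, 1, 5, 4, 3, 1], 99, []), ([2, 3, 2, 4, 3, 2, 5, 4, 3, 2], 99, []), ([0, 2, 0, 3, 2, 0, 4, 3, 2, 0, 5, 4, 3, 2, 0], 4, [1, 3, 4, 2, 3, 0, 2, 1, 3, 4]), ([1, 2, 3, 1, 2, 3, 4, 3, 1, 2, 3, 4, 5, 4, 3, 1, 2, 3, 4, 5], 99, []), ([0, 1, 2, 0, 3, 1, 2, 0, 3, 2, 4, 3, 1, 2, 0, 3, 2, 4, 3, 1, 5, 4, 3, 1, 2, 0, 3, 2, 4, 3, 1, 5, 4, 3, 2, 0], 0, [])]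

/-- representatives -/
def repsE6 : List (List ℕ) := [[71], [68, 66], [55, 65, 67]]

/-- reductions -/
def rdE6 : List (ℕ × List (Bool × List ℕ)) := [(0, []), (2, [(false, [0, 2, 3, 4, 1, 3, 2, 0]), (true, [47, 43, 40, 50]), (false, [4, 3, 0, 2, 1, 3, 4, 5, 1, 3, 4, 3, 0, 2, 1, 3, 0])]), (2, [(false, [4, 3, 0, 2, 1, 3, 4, 5, 1, 3, 4, 3, 0, 2, 1, 3, 0])]), (1, [(false, [0, 2, 3, 4, 5, 1, 3, 4, 2, 3, 0])]), (0, [(false, [1, 3, 4, 2, 3, 0, 2, 1, 3, 4])])]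

theorem okCE6 : csE6.all (tabE6.okC chevE6) = true := by decide +kernel

theorem okJE6 : allLt (2 ^ chevE6.rank) (fun n => tabE6.okJ chevE6 csE6 n (dJE6.getD n ([], 0, []))) = true := by
  decide +kernel

theorem okRE6 : tabE6.okR chevE6 csE6 repsE6 rdE6 = true := by decide +kernel

theorem rkE6_0 [CharP F 2] {T : Stb S} {K : Subgroup G} (h : tabE6.Fit T K) :
    rk S (pw S [71]) = 22 :=
  h.rk_eq (c := csE6.getD 4 []) (by decide +kernel) (k := 1) (B := [[0], [0], [0], [0], [0], [1]]) (B' := [[0, 0, 0, 0, 1, 0]]) (L := [[0, 0, 0, 0, 0, 1]]) (R := [[0], [0], [0], [0], [1], [0]])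
    (by decide +kernel) (M := (rdE6.getD 4 (0, [])).2) (by decide +kernel)

theorem rkE6_1 [CharP F 2] {T : Stb S} {K : Subgroup G} (h : tabE6.Fit T K) :
    rk S (pw S [68, 66]) = 32 :=
  h.rk_eq (c := csE6.getD 3 []) (by decide +kernel) (k := 2) (B := [[0, 0], [0, 1], [1, 1], [0, 0], [0, 0], [0, 0]]) (B' := [[1, 0, 0, 0, 0, 0], [0, 0, 0, 1, 0, 0]]) (L := [[0, 1, 1, 0, 0, 0], [0, 1, 0, 0, 0, 0]]) (R := [[1, 0], [0, 0], [0, 0], [0, 1], [0, 0], [0, 0]])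
    (by decide +kernel) (M := (rdE6.getD 3 (0, [])).2) (by decide +kernel)

theorem rkE6_2 [CharP F 2] {T : Stb S} {K : Subgroup G} (h : tabE6.Fit T K) :
    rk S (pw S [55, 65, 67]) = 38 :=
  h.rk_eq (c := csE6.getD 2 []) (by decide +kernel) (k := 3) (B := [[0, 0, 0], [0, 1, 0], [1, 1, 0], [0, 0, 0], [0, 1, 1], [0, 0, 0]]) (B' := [[1, 0, 0, 0, 0, 0], [0, 0, 0, 1, 0, 0], [0, 0, 0, 0, 0, 1]]) (L := [[0, 1, 1, 0, 0, 0], [0, 1, 0, 0, 0, 0], [0, 1, 0, 0, 1, 0]]) (R := [[1, 0, 0], [0, 0, 0], [0, 0, 0], [0, 1, 0], [0, 0, 0], [0, 0, 1]])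
    (by decide +kernel) (M := (rdE6.getD 2 (0, [])).2) (by decide +kernel)

theorem fitE6 : tabE6.Fit (Stb.one S) ⊤ :=
  ⟨Stb.good_one, ssE6, fun _ => rfl, fun _ => rfl, fun _ => rfl, fun _ _ => trivial, l0E6, fun _ => Stb.sep_one⟩

end Cfsg.Agent.Tw
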