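import Cfsg.Agent.Tw.Ree4

/-! Elements and subgroups of the small Ree groups. -/

set_option autoImplicit false
set_option linter.unusedSectionVars false

namespace Cfsg.Agent.Tw

open Subgroup Pointwise

theorem coprime_of_lin {a b k : ℕ} (hk : a.Coprime k) (x y : ℤ) (e : (k : ℤ) = a * x + b * y) : a.Coprime b :=
  Nat.eq_one_of_dvd_coprimes hk (Nat.gcd_dvd_left a b) (Int.natCast_dvd_natCast.1 (e ▸ dvd_add
    (Dvd.dvd.mul_right (Int.natCast_dvd_natCast.2 (Nat.gcd_dvd_left a b)) x)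
    (Dvd.dvd.mul_right (Int.natCast_dvd_natCast.2 (Nat.gcd_dvd_right a b)) y)))

theorem nT_coprime_of_ne (c : ℕ) {i j : Fin 4} (h : i ≠ j) : (nT c i).Coprime (nT c j) := by
  wlog h1 : i < j generalizing i j
  · exact (this h.symm (lt_of_le_of_ne (not_lt.1 h1) h.symm)).symm
  fin_cases i <;> fin_cases j <;> simp at h1
  · exact coprime_of_lin (Nat.coprime_one_right _) (-1) 2 (by simp [nT]; ring)
  · exact coprime_of_lin (Nat.coprime_one_right _) (-2 * (12 * c ^ 2 + 12 * c + 3)) (nT c 3) (by simp [nT]; ring)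
  · exact coprime_of_lin (Nat.coprime_one_right _) (-2 * (12 * c ^ 2 + 12 * c + 3)) (nT c 2) (by simp [nT]; ring)
  · exact coprime_of_lin (nT_coprime c _) (-4 * (12 * c ^ 2 + 12 * c + 1)) (nT c 3) (by simp [nT]; ring)
  · exact coprime_of_lin (nT_coprime c _) (-4 * (12 * c ^ 2 + 12 * c + 1)) (nT c 2) (by simp [nT]; ring)
  · exact coprime_of_lin (nT_odd c _).coprime_two_right (2 + 2 * c) (-2 * c) (by simp [nT]; ring)

theorem card_orderOf_cyclic {R : Type*} [Group R] [Finite R] {A : Subgroup R} (h : IsCyclic A) {d : ℕ}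
    (hd : d ∣ Nat.card A) : Nat.card {y // y ∈ A ∧ orderOf y = d} = d.totient := by
  classical
  have := Fintype.ofFinite A
  rw [← IsCyclic.card_orderOf_eq_totient (α := A) (by rwa [← Nat.card_eq_fintype_card]), ← Fintype.card_subtype,
    ← Nat.card_eq_fintype_card]
  exact RBN.card_eq (fun a : {a : A // orderOf a = d} => a.1.1) (fun _ _ e => Subtype.ext (Subtype.ext e)) fun g =>
    ⟨fun h => ⟨⟨⟨g, h.1⟩, by simpa using h.2⟩, rfl⟩, by rintro ⟨a, rfl⟩; exact ⟨a.1.2, by simpa using a.2⟩⟩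

theorem eq_of_cyclic {R : Type*} [Group R] [Finite R] {A B C : Subgroup R} (h : IsCyclic A) (hB : B ≤ A) (hC : C ≤ A)
    (e : Nat.card B = Nat.card C) : B = C := by
  classical
  have := Fintype.ofFinite A
  have key : ∀ {B : Subgroup R}, B ≤ A → (B : Set R) = {x | x ∈ A ∧ x ^ Nat.card B = 1} := fun {B} hB =>
    Set.Finite.eq_of_subset_of_card_le (Set.toFinite _)
      (fun x hx => ⟨hB hx, congrArg Subtype.val (pow_card_eq_one' (x := (⟨x, hx⟩ : B)))⟩) (by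
      refine le_trans (le_of_eq ?_) (IsCyclic.card_pow_eq_one_le (α := A) (n := Nat.card B) Nat.card_pos)
      rw [← Fintype.card_subtype, ← Nat.card_eq_fintype_card]
      exact RBN.card_eq (fun a : {a : A // a ^ Nat.card B = 1} => a.1.1) (fun _ _ e => Subtype.ext (Subtype.ext e)) fun g =>
        ⟨fun h => ⟨⟨⟨g, h.1⟩, Subtype.ext h.2⟩, rfl⟩, by rintro ⟨a, rfl⟩; exact ⟨a.1.2, congrArg Subtype.val a.2⟩⟩)
  exact SetLike.coe_injective (by rw [key hB, key hC, e])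

theorem solvable_cases (S : Type*) [Group S] [Finite S] [Group.IsSolvable S] (p : ℕ) [Fact p.Prime] :
    (∃ r : ℕ, r.Prime ∧ r ≠ p ∧ ∃ M : Subgroup S, M.Normal ∧ IsPGroup r M ∧ M ≠ ⊥) ∨
      ∃ V : Subgroup S, V.Normal ∧ IsPGroup p V ∧ centralizer V ≤ V := by
  classical
  let P : Sylow p S := default
  let V := P.1.normalCore
  have hV : IsPGroup p V := P.isPGroup'.to_le P.1.normalCore_le
  let D : ℕ → Subgroup S := fun n => Nat.rec (motive := fun _ => Subgroup S) (centralizer V) (fun _ A => ⁅A, A⁆) n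
  have h1 : ∀ n, (D n).Normal ∧ D n ≤ centralizer V ∧ D n ≤ derivedSeries S n := fun n => by
    induction n with
    | zero => exact ⟨inferInstanceAs (centralizer (V : Set S)).Normal, le_rfl, le_top⟩
    | succ n ih =>
      have := ih.1
      exact ⟨commutator_normal _ _, (commutator_le_left _ _).trans ih.2.1, commutator_mono ih.2.2 ih.2.2⟩
  have h2 : ∃ n, D n ≤ V := by
    obtain ⟨n, hn⟩ := Group.IsSolvable.solvable (G := S)
    exact ⟨n, (h1 n).2.2.trans (hn ▸ bot_le)⟩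
  by_cases h3 : D 0 ≤ V
  · exact Or.inr ⟨V, inferInstance, hV, h3⟩
  obtain ⟨n, h5, h4⟩ := Nat.exists_not_and_succ_of_not_zero_of_exists h3 h2
  have := (h1 n).1
  have : Group.IsNilpotent (D n) := Subgroup.isNilpotent_of_ker_le_center Abelianization.of (by
    rw [Abelianization.ker_of]
    intro x hx
    exact mem_center_iff.2 fun y => Subtype.ext
      ((h1 n).2.1 y.2 x (h4 ((map_subtype_commutator (D n)).le (mem_map_of_mem _ hx)))).symm)
  obtain ⟨r, hr, h6, h7⟩ : ∃ r : ℕ, r.Prime ∧ r ∣ Nat.card (D n) ∧ r ≠ p := by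
    by_contra! h
    exact h5 (normal_le_normalCore.2 ((IsPGroup.of_card (Nat.eq_prime_pow_of_unique_prime_dvd Nat.card_pos.ne'
      fun hr hd => h _ hr hd)).le_sylow_of_normal P))
  have := Fact.mk hr
  let Q : Sylow r (D n) := default
  have := Q.characteristic_of_normal inferInstance
  exact Or.inl ⟨r, hr, h7, Q.1.map (D n).subtype, inferInstance, Q.isPGroup'.map _, fun e =>
    Q.ne_bot_of_dvd_card h6 ((map_eq_bot_iff_of_injective _ (D n).subtype_injective).1 e)⟩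

namespace RTor

variable {R : Type*} [Group R] [Finite R] {c : ℕ} (Q : RTor R c) {i : Fin 4}

theorem pow' {y : R} (hy : y ∈ Q.T i) : y ^ (2 * nT c i) = 1 := by
  obtain ⟨k, hk⟩ := (by decide : ∀ i : Fin 4, ![2, 2, 1, 1] i ∣ 2) i
  rw [hk, mul_right_comm, pow_mul, Q.pow hy, one_pow]

theorem ex' {x : R} (h : x ^ (2 * nT c i) = 1) (h2 : x ^ 2 ≠ 1) : ∃ g, g * x * g⁻¹ ∈ Q.T i := by
  obtain ⟨j, g, hg⟩ := Q.ex (Nat.Coprime.mul_left (by norm_num) (nT_coprime c i)) h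
  by_cases e : i = j
  · exact ⟨g, e ▸ hg⟩
  have := pow_gcd_eq_one.2 ⟨h, by simpa using Q.pow' hg⟩
  rw [Nat.gcd_mul_left, nT_coprime_of_ne c e, mul_one] at this
  exact absurd this h2

theorem A_le : Q.A i ≤ Q.T i := fun _ h => (Q.mem_A.1 h).1

theorem count {d : ℕ} (hd : d ∣ 2 * nT c i) (h2 : ¬ d ∣ 2) : Nat.card {g : R // orderOf g = d} * Nat.card (Q.N i) =
    Nat.card R * Nat.card {y // y ∈ Q.T i ∧ orderOf y = d} := by
  have h1 : ∀ {y : R}, orderOf y = d → y ^ 2 ≠ 1 := fun h e => h2 (h ▸ orderOf_dvd_of_pow_eq_one e)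
  have h3 : ∀ y g : R, orderOf (g * y * g⁻¹) = orderOf y := fun y g => (MulAut.conj g).orderOf_eq y
  exact card_conj_count (X := {g : R | orderOf g = d}) (Y := {g | g ∈ Q.T i ∧ orderOf g = d})
    (fun x hx => (Q.ex' (orderOf_dvd_iff_pow_eq_one.1 (hx ▸ hd :)) (h1 hx)).imp fun g hg => ⟨hg, (h3 _ _).trans hx⟩)
    (fun y hy g => (h3 _ _).trans hy.2) fun y hy g =>
      ⟨fun h => (Q.norm hy.1 (h1 hy.2) g).1 h.1, fun h => ⟨Q.conj h hy.1, (h3 _ _).trans hy.2⟩⟩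

theorem card_ord {d : ℕ} (hd : d ∣ nT c i) : Nat.card {y // y ∈ Q.T i ∧ orderOf y = d} = d.totient := by
  rw [← card_orderOf_cyclic (Q.cyc i).1 ((Q.cyc i).2 ▸ hd)]
  exact Nat.card_congr (Equiv.subtypeEquivRight fun y => ⟨fun h => ⟨Q.mem_A.2 ⟨h.1, orderOf_dvd_iff_pow_eq_one.1
    (h.2 ▸ hd)⟩, h.2⟩, fun h => ⟨Q.A_le h.1, h.2⟩⟩)

theorem split_inj {v v' y y' : R} {d : ℕ} (hd : Odd d) (hv : v ∈ Q.T i ∧ v ^ 2 = 1) (hv' : v' ∈ Q.T i ∧ v' ^ 2 = 1)
    (hy : y ∈ Q.T i ∧ y ^ d = 1) (hy' : y' ∈ Q.T i ∧ y' ^ d = 1) (e : v * y = v' * y') : v = v' ∧ y = y' := by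
  obtain ⟨k, rfl⟩ := hd
  have key : ∀ {v y}, v ∈ Q.T i ∧ v ^ 2 = 1 → y ∈ Q.T i ∧ y ^ (2 * k + 1) = 1 → (v * y) ^ (2 * k + 1) = v := fun hv hy => by
    rw [Commute.mul_pow (Q.comm hv.1 hy.1), hy.2, pow_succ, pow_mul, hv.2, one_pow, one_mul, mul_one]
  obtain rfl : v = v' := by rw [← key hv hy, e, key hv' hy']
  exact ⟨rfl, mul_left_cancel e⟩

theorem card_T (i : Fin 4) : Nat.card (Q.T i) = ![2, 4, 1, 1] i * nT c i := by
  have h : ∀ i, ![2, 2, 1, 1] i = 1 → Nat.card (Q.T i) = 1 * nT c i := fun i h => by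
    rw [one_mul, ← (Q.cyc i).2, le_antisymm Q.A_le fun y hy => Q.mem_A.2 ⟨hy, by simpa [h] using Q.pow hy⟩]
  fin_cases i
  exacts [Q.cyc0.2, by
    obtain ⟨k, hk⟩ := nT_odd c 1
    rw [← (Q.cyc _).2]
    refine (RBN.card_eq (fun p : {y // y ∈ Q.T 1 ∧ y ^ 2 = 1} × Q.A 1 => p.1.1 * p.2.1) (fun a b e =>
      have := Q.split_inj (nT_odd c 1) a.1.2 b.1.2 (Q.mem_A.1 a.2.2) (Q.mem_A.1 b.2.2) e
      Prod.ext (Subtype.ext this.1) (Subtype.ext this.2)) fun g =>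
      ⟨fun h => ⟨(⟨g ^ nT c 1, pow_mem h _, by rw [← pow_mul, mul_comm, Q.pow' h]⟩, ⟨g ^ (nT c 1 + 1), Q.mem_A.2
        ⟨pow_mem h _, by rw [← pow_mul, show (nT c 1 + 1) * nT c 1 = 2 * nT c 1 * (k + 1) by nth_rw 1 [hk]; ring, pow_mul,
          Q.pow' h, one_pow]⟩⟩), by
          simp only [pow_succ, ← mul_assoc, ← pow_add, ← two_mul, Q.pow' h, one_mul]⟩, by
        rintro ⟨p, rfl⟩; exact mul_mem p.1.2.1 (Q.A_le p.2.2)⟩).trans ?_
    rw [Nat.card_prod, Q.four]; rfl, h _ rfl, h _ rfl]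

theorem card_ord2 {d : ℕ} (hd : d ∣ nT c 1) : Nat.card {y // y ∈ Q.T 1 ∧ orderOf y = 2 * d} = 3 * d.totient := by
  classical
  have h0 := (nT_odd c 1).of_dvd_nat hd
  rw [RBN.card_eq (fun p : {v : {y // y ∈ Q.T 1 ∧ y ^ 2 = 1} // ¬ v = ⟨1, one_mem _, one_pow _⟩} ×
    {y // y ∈ Q.T 1 ∧ orderOf y = d} => p.1.1.1 * p.2.1) (fun a b e => by
      simpa [Prod.ext_iff, Subtype.ext_iff] using Q.split_inj h0 a.1.1.2 b.1.1.2 ⟨a.2.2.1, orderOf_dvd_iff_pow_eq_one.1 a.2.2.2.dvd⟩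
        ⟨b.2.2.1, orderOf_dvd_iff_pow_eq_one.1 b.2.2.2.dvd⟩ e) fun g => ⟨fun h => ?_, ?_⟩, Nat.card_prod, Q.card_ord hd]
  · have := Fintype.ofFinite {y // y ∈ Q.T 1 ∧ y ^ 2 = 1}
    rw [Nat.card_eq_fintype_card, Fintype.card_subtype_compl, Fintype.card_subtype_eq, ← Nat.card_eq_fintype_card, Q.four]
  · have h1 : g ^ (2 * d) = 1 := h.2 ▸ pow_orderOf_eq_one g
    refine ⟨(⟨⟨g ^ d, pow_mem h.1 _, by rw [← pow_mul, mul_comm, h1]⟩, fun e => ?_⟩, ⟨g ^ (d + 1), pow_mem h.1 _, ?_⟩),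
      by simp only [pow_succ, ← mul_assoc, ← pow_add, ← two_mul, h1, one_mul]⟩
    · have := Nat.le_of_dvd h0.pos (h.2 ▸ orderOf_dvd_of_pow_eq_one (congrArg Subtype.val e) :)
      have := h0.pos
      omega
    · obtain ⟨k, rfl⟩ := h0
      rw [orderOf_pow, h.2, show 2 * k + 1 + 1 = 2 * (k + 1) by ring, Nat.gcd_mul_left,
        coprime_of_lin (Nat.coprime_one_right _) (-1) 2 (by push_cast; ring), mul_one, Nat.mul_div_cancel_left _ two_pos]
  · rintro ⟨⟨⟨⟨v, h1, h2⟩, h3⟩, y, h4, h5⟩, rfl⟩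
    have h6 := orderOf_eq_prime h2 fun e => h3 (Subtype.ext e)
    exact ⟨mul_mem h1 h4, by
      rw [Commute.orderOf_mul_eq_mul_orderOf_of_coprime (Q.comm h1 h4) (by rw [h5, h6]; simpa using h0), h5, h6]⟩

theorem exists_conj_le {d : ℕ} (hd : d ∣ nT c i) {A : Subgroup R} (h : IsCyclic A) (e : Nat.card A = d) :
    ∃ g, A.map (MulAut.conj g).toMonoidHom ≤ Q.A i := by
  obtain ⟨x, hx⟩ := (Subgroup.isCyclic_iff_exists_zpowers_eq_top A).1 h
  have h1 : x ^ nT c i = 1 := orderOf_dvd_iff_pow_eq_one.1 (by rwa [← Nat.card_zpowers, hx, e])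
  rw [← hx]
  by_cases h2 : x ^ 2 = 1
  · have := pow_gcd_eq_one.2 ⟨h1, h2⟩
    rw [(nT_odd c i).coprime_two_right, pow_one] at this
    exact ⟨1, by simp [this]⟩
  obtain ⟨g, hg⟩ := Q.ex' (i := i) (by rw [pow_mul', h1, one_pow]) h2
  exact ⟨g, by rw [MonoidHom.map_zpowers, zpowers_le]; exact Q.mem_A.2 ⟨hg, by simp [h1]⟩⟩

include Q in
theorem exists_conj {d : ℕ} (hd : d ∣ nT c i) {A B : Subgroup R} (hA : IsCyclic A) (hB : IsCyclic B)
    (h1 : Nat.card A = d) (h2 : Nat.card B = d) : ∃ g, B = A.map (MulAut.conj g).toMonoidHom := by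
  obtain ⟨a, ha⟩ := Q.exists_conj_le hd hA h1
  obtain ⟨b, hb⟩ := Q.exists_conj_le hd hB h2
  have := eq_of_cyclic (Q.cyc i).1 ha hb (by
    rw [card_map_of_injective (MulAut.conj a).injective, card_map_of_injective (MulAut.conj b).injective, h1, h2])
  refine ⟨b⁻¹ * a, map_injective (f := (MulAut.conj b).toMonoidHom) (MulAut.conj b).injective ?_⟩
  rw [← this, map_map]; congr 1; ext; simp [mul_assoc]

theorem exists_centralizer {H : Subgroup R} (h : IsCyclic H) (e : Nat.card H = nT c i) :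
    ∃ g, ∀ A ≤ H, A ≠ ⊥ → centralizer (A : Set R) = (Q.T i).comap (MulAut.conj g).toMonoidHom := by
  obtain ⟨g, hg⟩ := Q.exists_conj_le dvd_rfl h e
  refine ⟨g, fun A h1 h2 => le_antisymm (fun x hx => ?_) fun x hx y hy => (MulAut.conj g).injective ?_⟩
  · obtain ⟨⟨y, hy⟩, h3⟩ := ne_bot_iff_exists_ne_one.1 h2
    obtain ⟨h4, h5⟩ := Q.mem_A.1 (hg (mem_map_of_mem _ (h1 hy)))
    refine Q.cent h4 (fun h6 => h3 (Subtype.ext ?_)) (by rw [← map_mul, ← map_mul, hx y hy])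
    have := pow_gcd_eq_one.2 ⟨h5, h6⟩
    rw [(nT_odd c i).coprime_two_right, pow_one] at this
    simpa using this
  · rw [map_mul, map_mul]
    exact Q.comm (Q.A_le (hg (mem_map_of_mem _ (h1 hy)))) hx

include Q in
theorem sq_eq_one {x : R} {k : ℕ} (h : x ^ 2 ^ k = 1) : x ^ 2 = 1 := by
  obtain ⟨i, g, hg⟩ := Q.ex (Nat.Coprime.pow_left k (by norm_num)) h
  refine orderOf_dvd_iff_pow_eq_one.1 (Nat.Coprime.dvd_of_dvd_mul_right (n := nT c i) ?_
    (orderOf_dvd_of_pow_eq_one (by simpa using Q.pow' hg)))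
  exact ((nT_odd c i).coprime_two_left.pow_left k).coprime_dvd_left (orderOf_dvd_of_pow_eq_one h)

include Q in
theorem comm_two {V : Subgroup R} (h : IsPGroup 2 V) {a b : R} (ha : a ∈ V) (hb : b ∈ V) : a * b = b * a :=
  congrArg Subtype.val (Commute.of_orderOf_dvd_two (G := V) (fun x => (h x).elim fun _ e =>
    orderOf_dvd_of_pow_eq_one (Subtype.ext (Q.sq_eq_one (congrArg Subtype.val e)))) ⟨a, ha⟩ ⟨b, hb⟩)

variable {F : Type*} [Field F] [Finite F] [CharP F 3] (P : RBN R F) (hF : Nat.card F = 12 * c ^ 2 + 12 * c + 3)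
include P hF

omit Q in
theorem card_B : Nat.card P.B = Nat.card F ^ 3 * (2 * nT c 0) := by
  rw [P.card_B, hF]; congr 1; simp [nT]; omega

omit Q in
theorem card_R : Nat.card R = Nat.card F ^ 3 * (2 * nT c 0) * (4 * nT c 1 * nT c 2 * nT c 3) := by
  rw [P.card, card_B P hF, hF]; simp [nT]; ring

include Q in
theorem two_local {V S : Subgroup R} (hV : IsPGroup 2 V) (h1 : V ≤ S) (h2 : S ≤ normalizer V)
    (h3 : ∀ x ∈ S, x ∈ centralizer (V : Set R) → x ∈ V) : ∃ P : Sylow 2 R, S ≤ normalizer P := by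
  have h4 : Odd (Nat.card F ^ 3 * nT c 0) := (Odd.pow (by rw [hF, Nat.odd_iff]; omega)).mul (nT_odd ..)
  have h5 : ∀ {A : Subgroup R}, IsPGroup 2 A → Nat.card A ∣ 2 ^ 3 := fun {A} h => by
    obtain ⟨k, hk⟩ := h.exists_card_eq
    have := card_subgroup_dvd_card A
    rw [card_R P hF, hk] at this
    rw [hk]
    exact ((((h4.mul (nT_odd c 1)).mul (nT_odd c 2)).mul (nT_odd c 3)).coprime_two_left.pow_left k).dvd_of_dvd_mul_left
      (by convert this using 1; ring)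
  obtain ⟨P₁, hP₁⟩ := hV.exists_le_sylow
  let f : S →* MulAut V := V.normalizerMonoidHom.comp (inclusion h2)
  have h6 : f.ker = V.subgroupOf S := by
    ext x
    rw [← MonoidHom.comap_ker, normalizerMonoidHom_ker]
    exact ⟨h3 x x.2, fun hx y hy => Q.comm_two hV hy hx⟩
  have h7 : (V.subgroupOf S).index ∣ (Nat.card V).factorial := by
    rw [← h6, index_ker, ← Nat.card_perm]
    exact (card_subgroup_dvd_card _).trans (card_dvd_of_injective (MulAut.toPerm V) fun _ _ => MulEquiv.toEquiv_injective.eq_iff.1)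
  have h8 : ¬ 2 ∣ (V.subgroupOf S).index := by
    obtain ⟨P₀, h⟩ := (hV.comap_subtype (K := S)).exists_le_sylow
    rw [show V.subgroupOf S = P₀ from le_antisymm h fun x hx => h3 x x.2 fun y hy =>
      Q.comm_two (P₀.isPGroup'.map S.subtype) ⟨⟨y, h1 hy⟩, h hy, rfl⟩ ⟨x, hx, rfl⟩]
    exact P₀.not_dvd_index
  obtain ⟨k, hk, e⟩ := (Nat.dvd_prime_pow Nat.prime_two).1 (h5 hV)
  rw [e] at h7
  by_cases h9 : k ≤ 1
  · have : (V.subgroupOf S).index ∣ 2 := h7.trans (by interval_cases k <;> decide)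
    rw [Nat.dvd_prime Nat.prime_two, or_iff_left fun e => h8 e.symm.dvd, index_eq_one, subgroupOf_eq_top] at this
    exact ⟨P₁, this.trans (hP₁.trans le_normalizer)⟩
  obtain rfl | rfl : k = 3 ∨ k = 2 := by omega
  · rw [eq_of_le_of_card_ge hP₁ (e ▸ Nat.le_of_dvd (by norm_num) (h5 P₁.isPGroup'))] at h2
    exact ⟨P₁, h2⟩
  replace h7 : (V.subgroupOf S).index ∣ 3 := (((Nat.Prime.coprime_iff_not_dvd Nat.prime_two).2 h8).symm.pow_right 3).dvd_of_dvd_mul_left h7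
  let Z : Sylow 3 S := default
  have h10 : V.subgroupOf S ⊔ Z = ⊤ := index_eq_one.1 (Nat.eq_one_of_dvd_coprimes
    ((Nat.Prime.coprime_iff_not_dvd Nat.prime_three).2 Z.not_dvd_index) ((index_dvd_of_le le_sup_left).trans h7)
    (index_dvd_of_le le_sup_right))
  let C := centralizer (V : Set R)
  have h11 : ¬ 3 ∣ Nat.card (Sylow 2 C) := fun h => by
    obtain ⟨y, hy⟩ := exists_prime_orderOf_dvd_card' 3 (h.trans ((Sylow.card_dvd_index default).trans (index_dvd_card _)))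
    obtain ⟨h5, h6⟩ := orderOf_eq_prime_iff.1 hy
    obtain ⟨g, hg⟩ := P.exists_conj_U' (y := y) (k := 1) (congrArg Subtype.val h5)
    have := card_dvd_of_le (show V.map (MulAut.conj g).toMonoidHom ≤ P.B by
      rintro _ ⟨v, hv, rfl⟩
      exact P.ti hg (by simpa using h6) (by simpa [mul_assoc, ← mul_assoc v, y.2 v hv] using P.U_le_B hg))
    rw [card_map_of_injective (MulAut.conj g).injective, e, card_B P hF, mul_left_comm, pow_two,
      mul_dvd_mul_iff_left two_ne_zero] at this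
    exact h4.not_two_dvd_nat this
  have h12 : S ≤ normalizer C := fun s hs => mem_normalizer_fintype fun x hx y hy => by
    have := hx _ ((mem_normalizer_iff''.1 (h2 hs) y).1 hy)
    calc _ = s * (s⁻¹ * y * s * x) * s⁻¹ := by group
      _ = _ := by rw [this]; group
  let _ : MulAction Z (Sylow 2 C) := MulAction.compHom _ (C.normalizerMonoidHom.comp ((inclusion h12).comp Z.1.subtype))
  obtain ⟨P₀, h13⟩ := Z.isPGroup'.nonempty_fixed_point_of_prime_not_dvd_card _ h11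
  obtain ⟨P₂, h14⟩ := (P₀.isPGroup'.map C.subtype).exists_le_sylow
  have h15 : P₀.1.map C.subtype = P₂ := eq_of_le_of_card_ge h14 (by
    have h : P₁.1 ≤ C := fun x hx y hy => Q.comm_two P₁.isPGroup' (hP₁ hy) hx
    rw [card_subtype, P₀.card_eq_multiplicity, ← (P₁.subtype h).card_eq_multiplicity, P₂.card_eq_multiplicity,
      ← P₁.card_eq_multiplicity, Sylow.coe_subtype, Nat.card_congr (subgroupOfEquivOfLe h).toEquiv])
  refine ⟨P₂, fun s hs => (h10.ge.trans (sup_le (fun v hv => ?_) fun z hz => ?_) : ⊤ ≤ (normalizer P₂).subgroupOf S)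
    (mem_top ⟨s, hs⟩)⟩ <;> refine mem_normalizer_fintype fun x hx => ?_ <;> rw [← Sylow.coe_coe, ← h15] at hx ⊢ <;>
    obtain ⟨y, hy, rfl⟩ := hx
  · exact ⟨y, hy, by simp [y.2 _ (mem_subgroupOf.1 hv)]⟩
  · have := smul_mem_pointwise_smul y (C.normalizerMonoidHom (inclusion h12 z)) _ hy
    rw [show C.normalizerMonoidHom (inclusion h12 z) • P₀.1 = P₀ from congrArg Sylow.toSubgroup (h13 ⟨z, hz⟩)] at this
    exact ⟨_, this, rfl⟩

include Q in
theorem solvable (S : Subgroup R) [Group.IsSolvable S] : ∃ A : Subgroup R, S ≤ normalizer A ∧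
    ((∃ P : Sylow 2 R, A = P) ∨ (∃ P : Sylow 3 R, A = P) ∨ IsCyclic A ∧ ∃ i, Nat.card A = nT c i) := by
  have key : ∀ (A : Subgroup R) g, (∀ s ∈ S, ∀ a ∈ A, g * s * g⁻¹ * a * (g * s * g⁻¹)⁻¹ ∈ A) →
      S ≤ normalizer (A.map (MulAut.conj g⁻¹).toMonoidHom) := fun A g h s hs => mem_normalizer_fintype (by
    rintro _ ⟨a, ha, rfl⟩
    exact ⟨_, h s hs a ha, by simp [mul_assoc]⟩)
  rcases solvable_cases S 2 with ⟨r, hr, h1, M, h2, h3, h4⟩ | ⟨V, h1, h2, h3⟩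
  · have := Fact.mk hr
    have := (nontrivial_iff_ne_bot M).2 h4
    have := h3.center_nontrivial
    obtain ⟨⟨y, h5⟩, h6⟩ := exists_ne (1 : center M)
    replace h6 : y.1.1 ≠ 1 := fun e => h6 (Subtype.ext (Subtype.ext (Subtype.ext e)))
    have h7 : ∀ g, ∀ s ∈ S, ∃ z : M, g * s * g⁻¹ * (g * y * g⁻¹) * (g * s * g⁻¹)⁻¹ = g * z * g⁻¹ := fun g s hs =>
      ⟨⟨_, h2.conj_mem _ y.2 ⟨s, hs⟩⟩, by simp [mul_assoc]⟩
    by_cases h8 : r = 3
    · subst h8
      obtain ⟨g, hg⟩ := P.exists_conj_U (h3.map S.subtype)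
      refine ⟨_, key P.U g fun s hs a ha => P.conj_U (P.ti (hg _ ⟨_, y.2, rfl⟩) (by simpa using h6) ?_) ha,
        Or.inr (Or.inl ⟨g⁻¹ • P.syl, rfl⟩)⟩
      obtain ⟨z, e⟩ := h7 g s hs
      exact e ▸ P.U_le_B (hg _ ⟨_, z.2, rfl⟩)
    obtain ⟨k, hk⟩ := h3 y
    replace hk : y.1.1 ^ r ^ k = 1 := congrArg (·.1.1) hk
    obtain ⟨i, g, hg⟩ := Q.ex (((Nat.coprime_primes hr Nat.prime_three).2 h8).pow_left k) hk
    have h9 : (g * y * g⁻¹) ^ 2 ≠ 1 := fun e => h6 (by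
      have := pow_gcd_eq_one.2 ⟨hk, by simpa using e⟩
      rwa [((Nat.coprime_primes hr Nat.prime_two).2 h1).pow_left k, pow_one] at this)
    refine ⟨_, key (Q.A i) g fun s hs a ha => Q.mem_A.2 ⟨Q.conj ((Q.norm hg h9 _).1 ?_) (Q.A_le ha), by
      rw [conj_pow, (Q.mem_A.1 ha).2]; simp⟩, Or.inr (Or.inr ⟨?_, i, ?_⟩)⟩
    · obtain ⟨z, e⟩ := h7 g s hs
      rw [e]
      exact Q.cent hg h9 (by simpa using congrArg (·.1.1) (mem_center_iff.1 h5 z))
    · exact (equivMapOfInjective _ _ (MulAut.conj g⁻¹).injective).isCyclic.1 (Q.cyc i).1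
    · rw [card_map_of_injective (MulAut.conj g⁻¹).injective, (Q.cyc i).2]
  · obtain ⟨P₁, h⟩ := Q.two_local P hF (h2.map S.subtype) (map_subtype_le V) (fun s hs => mem_normalizer_fintype (by
      rintro _ ⟨a, ha, rfl⟩
      exact ⟨_, h1.conj_mem a ha ⟨s, hs⟩, rfl⟩)) fun x hx h =>
        ⟨⟨x, hx⟩, h3 fun y hy => Subtype.ext (h _ ⟨y, hy, rfl⟩), rfl⟩
    exact ⟨_, h, Or.inl ⟨P₁, rfl⟩⟩

end RTor

theorem exists_ree {K : Type*} [Field K] [Fintype K] {m : ℕ} (hK : Fintype.card K = 3 ^ (2 * m + 1)) :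
    ∃ c, ∃ (_ : CharP K 3) (_ : RBN (Lie.twistedG2 K (3 ^ m)) K) (_ : RTor (Lie.twistedG2 K (3 ^ m)) c),
      Nat.card K = 12 * c ^ 2 + 12 * c + 3 ∧ 3 ^ (2 * m + 1) = Nat.card K ∧ Nat.card K - 1 = 2 * nT c 0 ∧
      (Nat.card K + 1) / 4 = nT c 1 ∧ Nat.card K - 3 ^ (m + 1) + 1 = nT c 2 ∧ Nat.card K + 3 ^ (m + 1) + 1 = nT c 3 := by
  have h : Nat.card K = 3 ^ (2 * m + 1) := by rw [Nat.card_eq_fintype_card, hK]
  have := charP_of_card_eq_prime_pow hK
  obtain ⟨c, hc⟩ : Odd (3 ^ m) := Odd.pow (by decide)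
  obtain ⟨P⟩ := exists_rbn h
  obtain ⟨Q⟩ := exists_rtor h hc
  have h1 : Nat.card K = 12 * c ^ 2 + 12 * c + 3 := by rw [h, pow_succ, pow_mul', hc]; ring
  refine ⟨c, this, P, Q, h1, h.symm, ?_⟩
  simp only [h1, pow_succ 3 m, hc, nT, Matrix.cons_val]
  omega

end Cfsg.Agent.Tw
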