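import Cfsg.Agent.Tw.Stbs

/-! Commutation rules in type G2, characteristic 3. -/

set_option autoImplicit false

namespace Cfsg.Agent.Tw

open Cfsg.Lie Cfsg.Agent.Chev

variable {F : Type*} [Field F] [CharP F 3] {G : Type*} [Group G] (S : Sys certG2 F G)

omit [CharP F 3] in
theorem swG23_1_0 (t u : F) (g : G) : xi S 1 u * (xi S 0 t * g) =
    xi S 0 t * (xi S 1 u * g) := by
  rw [← mul_assoc, xi_swap S (r := 0) (s := 1) (L := []) (by decide +kernel)]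
  simp only [List.map, wd_cons, wd_nil, mul_assoc, one_mul]

omit [CharP F 3] in
theorem swG23_2_0 (t u : F) (g : G) : xi S 2 u * (xi S 0 t * g) =
    xi S 0 t * (xi S 2 u * g) := by
  rw [← mul_assoc, xi_swap S (r := 0) (s := 2) (L := []) (by decide +kernel)]
  simp only [List.map, wd_cons, wd_nil, mul_assoc, one_mul]

omit [CharP F 3] in
theorem swG23_3_0 (t u : F) (g : G) : xi S 3 u * (xi S 0 t * g) =
    xi S 0 t * (xi S 3 u * g) := by
  rw [← mul_assoc, xi_swap S (r := 0) (s := 3) (L := []) (by decide +kernel)]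
  simp only [List.map, wd_cons, wd_nil, mul_assoc, one_mul]

omit [CharP F 3] in
theorem swG23_4_0 (t u : F) (g : G) : xi S 4 u * (xi S 0 t * g) =
    xi S 0 t * (xi S 4 u * g) := by
  rw [← mul_assoc, xi_swap S (r := 0) (s := 4) (L := []) (by decide +kernel)]
  simp only [List.map, wd_cons, wd_nil, mul_assoc, one_mul]

omit [CharP F 3] in
theorem swG23_5_0 (t u : F) (g : G) : xi S 5 u * (xi S 0 t * g) =
    xi S 0 t * (xi S 5 u * g) := by
  rw [← mul_assoc, xi_swap S (r := 0) (s := 5) (L := []) (by decide +kernel)]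
  simp only [List.map, wd_cons, wd_nil, mul_assoc, one_mul]

theorem swG23_6_0 (t u : F) (g : G) : xi S 6 u * (xi S 0 t * g) =
    xi S 0 t * (xi S 6 u * (xi S 1 (-(t * u)) * g)) := by
  rw [← mul_assoc, xi_swap S (r := 0) (s := 6) (L := [(1, 1, 1, 1)]) (by decide +kernel)]
  simp only [List.map, wd_cons, wd_nil, mul_assoc, one_mul]
  rw [show (((1 : ℤ) : F) * ((-t) ^ 1 * u ^ 1)) = -(t * u) by push_cast; grind]

omit [CharP F 3] in
theorem swG23_7_0 (t u : F) (g : G) : xi S 7 u * (xi S 0 t * g) =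
    xi S 0 t * (xi S 7 u * g) := by
  rw [← mul_assoc, xi_swap S (r := 0) (s := 7) (L := []) (by decide +kernel)]
  simp only [List.map, wd_cons, wd_nil, mul_assoc, one_mul]

theorem swG23_8_0 (t u : F) (g : G) : xi S 8 u * (xi S 0 t * g) =
    xi S 0 t * (xi S 8 u * (xi S 2 (-(t * u)) * (xi S 4 (-(t * u ^ 2)) * (xi S 6 (t * u ^ 3) * (xi S 1 (t ^ 2 * u ^ 3) * g))))) := by
  rw [← mul_assoc, xi_swap S (r := 0) (s := 8) (L := [(2, 1, 1, 1), (4, 1, 1, 2), (6, -1, 1, 3), (1, -2, 2, 3)]) (by decide +kernel)]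
  simp only [List.map, wd_cons, wd_nil, mul_assoc, one_mul]
  rw [show (((1 : ℤ) : F) * ((-t) ^ 1 * u ^ 1)) = -(t * u) by push_cast; grind, show (((1 : ℤ) : F) * ((-t) ^ 1 * u ^ 2)) = -(t * u ^ 2) by push_cast; grind, show (((-1 : ℤ) : F) * ((-t) ^ 1 * u ^ 3)) = t * u ^ 3 by push_cast; grind, show (((-2 : ℤ) : F) * ((-t) ^ 2 * u ^ 3)) = t ^ 2 * u ^ 3 by push_cast; grind]

theorem swG23_9_0 (t u : F) (g : G) : xi S 9 u * (xi S 0 t * g) =
    xi S 0 t * (xi S 9 u * (xi S 3 (t * u) * (xi S 7 (t * u ^ 2) * (xi S 10 (t * u ^ 3) * (xi S 5 (-(t ^ 2 * u ^ 3)) * g))))) := by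
  rw [← mul_assoc, xi_swap S (r := 0) (s := 9) (L := [(3, -1, 1, 1), (7, -1, 1, 2), (10, -1, 1, 3), (5, 2, 2, 3)]) (by decide +kernel)]
  simp only [List.map, wd_cons, wd_nil, mul_assoc, one_mul]
  rw [show (((-1 : ℤ) : F) * ((-t) ^ 1 * u ^ 1)) = t * u by push_cast; grind, show (((-1 : ℤ) : F) * ((-t) ^ 1 * u ^ 2)) = t * u ^ 2 by push_cast; grind, show (((-1 : ℤ) : F) * ((-t) ^ 1 * u ^ 3)) = t * u ^ 3 by push_cast; grind, show (((2 : ℤ) : F) * ((-t) ^ 2 * u ^ 3)) = -(t ^ 2 * u ^ 3) by push_cast; grind]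

theorem swG23_10_0 (t u : F) (g : G) : xi S 10 u * (xi S 0 t * g) =
    xi S 0 t * (xi S 10 u * (xi S 5 (t * u) * g)) := by
  rw [← mul_assoc, xi_swap S (r := 0) (s := 10) (L := [(5, -1, 1, 1)]) (by decide +kernel)]
  simp only [List.map, wd_cons, wd_nil, mul_assoc, one_mul]
  rw [show (((-1 : ℤ) : F) * ((-t) ^ 1 * u ^ 1)) = t * u by push_cast; grind]

omit [CharP F 3] in
theorem swG23_2_1 (t u : F) (g : G) : xi S 2 u * (xi S 1 t * g) =
    xi S 1 t * (xi S 2 u * g) := by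
  rw [← mul_assoc, xi_swap S (r := 1) (s := 2) (L := []) (by decide +kernel)]
  simp only [List.map, wd_cons, wd_nil, mul_assoc, one_mul]

omit [CharP F 3] in
theorem swG23_3_1 (t u : F) (g : G) : xi S 3 u * (xi S 1 t * g) =
    xi S 1 t * (xi S 3 u * g) := by
  rw [← mul_assoc, xi_swap S (r := 1) (s := 3) (L := []) (by decide +kernel)]
  simp only [List.map, wd_cons, wd_nil, mul_assoc, one_mul]

omit [CharP F 3] in
theorem swG23_4_1 (t u : F) (g : G) : xi S 4 u * (xi S 1 t * g) =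
    xi S 1 t * (xi S 4 u * g) := by
  rw [← mul_assoc, xi_swap S (r := 1) (s := 4) (L := []) (by decide +kernel)]
  simp only [List.map, wd_cons, wd_nil, mul_assoc, one_mul]

theorem swG23_5_1 (t u : F) (g : G) : xi S 5 u * (xi S 1 t * g) =
    xi S 1 t * (xi S 5 u * (xi S 0 (-(t * u)) * g)) := by
  rw [← mul_assoc, xi_swap S (r := 1) (s := 5) (L := [(0, 1, 1, 1)]) (by decide +kernel)]
  simp only [List.map, wd_cons, wd_nil, mul_assoc, one_mul]
  rw [show (((1 : ℤ) : F) * ((-t) ^ 1 * u ^ 1)) = -(t * u) by push_cast; grind]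

omit [CharP F 3] in
theorem swG23_6_1 (t u : F) (g : G) : xi S 6 u * (xi S 1 t * g) =
    xi S 1 t * (xi S 6 u * g) := by
  rw [← mul_assoc, xi_swap S (r := 1) (s := 6) (L := []) (by decide +kernel)]
  simp only [List.map, wd_cons, wd_nil, mul_assoc, one_mul]

theorem swG23_7_1 (t u : F) (g : G) : xi S 7 u * (xi S 1 t * g) =
    xi S 1 t * (xi S 7 u * (xi S 2 (-(t * u)) * (xi S 3 (t * u ^ 2) * (xi S 5 (-(t * u ^ 3)) * (xi S 0 (-(t ^ 2 * u ^ 3)) * g))))) := by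
  rw [← mul_assoc, xi_swap S (r := 1) (s := 7) (L := [(2, 1, 1, 1), (3, -1, 1, 2), (5, 1, 1, 3), (0, 2, 2, 3)]) (by decide +kernel)]
  simp only [List.map, wd_cons, wd_nil, mul_assoc, one_mul]
  rw [show (((1 : ℤ) : F) * ((-t) ^ 1 * u ^ 1)) = -(t * u) by push_cast; grind, show (((-1 : ℤ) : F) * ((-t) ^ 1 * u ^ 2)) = t * u ^ 2 by push_cast; grind, show (((1 : ℤ) : F) * ((-t) ^ 1 * u ^ 3)) = -(t * u ^ 3) by push_cast; grind, show (((2 : ℤ) : F) * ((-t) ^ 2 * u ^ 3)) = -(t ^ 2 * u ^ 3) by push_cast; grind]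

omit [CharP F 3] in
theorem swG23_8_1 (t u : F) (g : G) : xi S 8 u * (xi S 1 t * g) =
    xi S 1 t * (xi S 8 u * g) := by
  rw [← mul_assoc, xi_swap S (r := 1) (s := 8) (L := []) (by decide +kernel)]
  simp only [List.map, wd_cons, wd_nil, mul_assoc, one_mul]

theorem swG23_9_1 (t u : F) (g : G) : xi S 9 u * (xi S 1 t * g) =
    xi S 1 t * (xi S 9 u * (xi S 4 (t * u) * (xi S 8 (-(t * u ^ 2)) * (xi S 11 (-(t * u ^ 3)) * (xi S 6 (t ^ 2 * u ^ 3) * g))))) := by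
  rw [← mul_assoc, xi_swap S (r := 1) (s := 9) (L := [(4, -1, 1, 1), (8, 1, 1, 2), (11, 1, 1, 3), (6, -2, 2, 3)]) (by decide +kernel)]
  simp only [List.map, wd_cons, wd_nil, mul_assoc, one_mul]
  rw [show (((-1 : ℤ) : F) * ((-t) ^ 1 * u ^ 1)) = t * u by push_cast; grind, show (((1 : ℤ) : F) * ((-t) ^ 1 * u ^ 2)) = -(t * u ^ 2) by push_cast; grind, show (((1 : ℤ) : F) * ((-t) ^ 1 * u ^ 3)) = -(t * u ^ 3) by push_cast; grind, show (((-2 : ℤ) : F) * ((-t) ^ 2 * u ^ 3)) = t ^ 2 * u ^ 3 by push_cast; grind]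

theorem swG23_11_1 (t u : F) (g : G) : xi S 11 u * (xi S 1 t * g) =
    xi S 1 t * (xi S 11 u * (xi S 6 (t * u) * g)) := by
  rw [← mul_assoc, xi_swap S (r := 1) (s := 11) (L := [(6, -1, 1, 1)]) (by decide +kernel)]
  simp only [List.map, wd_cons, wd_nil, mul_assoc, one_mul]
  rw [show (((-1 : ℤ) : F) * ((-t) ^ 1 * u ^ 1)) = t * u by push_cast; grind]

theorem swG23_3_2 (t u : F) (g : G) : xi S 3 u * (xi S 2 t * g) =
    xi S 2 t * (xi S 3 u * g) := by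
  rw [← mul_assoc, xi_swap S (r := 2) (s := 3) (L := [(0, 3, 1, 1)]) (by decide +kernel)]
  simp only [List.map, wd_cons, wd_nil, mul_assoc, one_mul]
  rw [show (((3 : ℤ) : F) * ((-t) ^ 1 * u ^ 1)) = 0 by push_cast; grind, xi_zero, one_mul]

theorem swG23_4_2 (t u : F) (g : G) : xi S 4 u * (xi S 2 t * g) =
    xi S 2 t * (xi S 4 u * g) := by
  rw [← mul_assoc, xi_swap S (r := 2) (s := 4) (L := [(1, 3, 1, 1)]) (by decide +kernel)]
  simp only [List.map, wd_cons, wd_nil, mul_assoc, one_mul]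
  rw [show (((3 : ℤ) : F) * ((-t) ^ 1 * u ^ 1)) = 0 by push_cast; grind, xi_zero, one_mul]

omit [CharP F 3] in
theorem swG23_5_2 (t u : F) (g : G) : xi S 5 u * (xi S 2 t * g) =
    xi S 2 t * (xi S 5 u * g) := by
  rw [← mul_assoc, xi_swap S (r := 2) (s := 5) (L := []) (by decide +kernel)]
  simp only [List.map, wd_cons, wd_nil, mul_assoc, one_mul]

omit [CharP F 3] in
theorem swG23_6_2 (t u : F) (g : G) : xi S 6 u * (xi S 2 t * g) =
    xi S 2 t * (xi S 6 u * g) := by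
  rw [← mul_assoc, xi_swap S (r := 2) (s := 6) (L := []) (by decide +kernel)]
  simp only [List.map, wd_cons, wd_nil, mul_assoc, one_mul]

theorem swG23_7_2 (t u : F) (g : G) : xi S 7 u * (xi S 2 t * g) =
    xi S 2 t * (xi S 7 u * (xi S 3 (-(t * u)) * g)) := by
  rw [← mul_assoc, xi_swap S (r := 2) (s := 7) (L := [(3, -2, 1, 1), (0, -3, 2, 1), (5, 3, 1, 2)]) (by decide +kernel)]
  simp only [List.map, wd_cons, wd_nil, mul_assoc, one_mul]
  rw [show (((-2 : ℤ) : F) * ((-t) ^ 1 * u ^ 1)) = -(t * u) by push_cast; grind, show (((-3 : ℤ) : F) * ((-t) ^ 2 * u ^ 1)) = 0 by push_cast; grind, xi_zero, one_mul, show (((3 : ℤ) : F) * ((-t) ^ 1 * u ^ 2)) = 0 by push_cast; grind, xi_zero, one_mul]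

theorem swG23_8_2 (t u : F) (g : G) : xi S 8 u * (xi S 2 t * g) =
    xi S 2 t * (xi S 8 u * (xi S 4 (t * u) * g)) := by
  rw [← mul_assoc, xi_swap S (r := 2) (s := 8) (L := [(4, 2, 1, 1), (1, 3, 2, 1), (6, -3, 1, 2)]) (by decide +kernel)]
  simp only [List.map, wd_cons, wd_nil, mul_assoc, one_mul]
  rw [show (((2 : ℤ) : F) * ((-t) ^ 1 * u ^ 1)) = t * u by push_cast; grind, show (((3 : ℤ) : F) * ((-t) ^ 2 * u ^ 1)) = 0 by push_cast; grind, xi_zero, one_mul, show (((-3 : ℤ) : F) * ((-t) ^ 1 * u ^ 2)) = 0 by push_cast; grind, xi_zero, one_mul]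

theorem swG23_10_2 (t u : F) (g : G) : xi S 10 u * (xi S 2 t * g) =
    xi S 2 t * (xi S 10 u * (xi S 7 (t * u) * (xi S 3 (t ^ 2 * u) * (xi S 0 (-(t ^ 3 * u)) * (xi S 5 (-(t ^ 3 * u ^ 2)) * g))))) := by
  rw [← mul_assoc, xi_swap S (r := 2) (s := 10) (L := [(7, -1, 1, 1), (3, 1, 2, 1), (0, 1, 3, 1), (5, 1, 3, 2)]) (by decide +kernel)]
  simp only [List.map, wd_cons, wd_nil, mul_assoc, one_mul]
  rw [show (((-1 : ℤ) : F) * ((-t) ^ 1 * u ^ 1)) = t * u by push_cast; grind, show (((1 : ℤ) : F) * ((-t) ^ 2 * u ^ 1)) = t ^ 2 * u by push_cast; grind, show (((1 : ℤ) : F) * ((-t) ^ 3 * u ^ 1)) = -(t ^ 3 * u) by push_cast; grind, show (((1 : ℤ) : F) * ((-t) ^ 3 * u ^ 2)) = -(t ^ 3 * u ^ 2) by push_cast; grind]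

theorem swG23_11_2 (t u : F) (g : G) : xi S 11 u * (xi S 2 t * g) =
    xi S 2 t * (xi S 11 u * (xi S 8 (t * u) * (xi S 4 (-(t ^ 2 * u)) * (xi S 1 (t ^ 3 * u) * (xi S 6 (t ^ 3 * u ^ 2) * g))))) := by
  rw [← mul_assoc, xi_swap S (r := 2) (s := 11) (L := [(8, -1, 1, 1), (4, -1, 2, 1), (1, -1, 3, 1), (6, -1, 3, 2)]) (by decide +kernel)]
  simp only [List.map, wd_cons, wd_nil, mul_assoc, one_mul]
  rw [show (((-1 : ℤ) : F) * ((-t) ^ 1 * u ^ 1)) = t * u by push_cast; grind, show (((-1 : ℤ) : F) * ((-t) ^ 2 * u ^ 1)) = -(t ^ 2 * u) by push_cast; grind, show (((-1 : ℤ) : F) * ((-t) ^ 3 * u ^ 1)) = t ^ 3 * u by push_cast; grind, show (((-1 : ℤ) : F) * ((-t) ^ 3 * u ^ 2)) = t ^ 3 * u ^ 2 by push_cast; grind]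

theorem swG23_4_3 (t u : F) (g : G) : xi S 4 u * (xi S 3 t * g) =
    xi S 3 t * (xi S 4 u * (xi S 2 (-(t * u)) * g)) := by
  rw [← mul_assoc, xi_swap S (r := 3) (s := 4) (L := [(2, -2, 1, 1), (0, 3, 2, 1), (1, -3, 1, 2)]) (by decide +kernel)]
  simp only [List.map, wd_cons, wd_nil, mul_assoc, one_mul]
  rw [show (((-2 : ℤ) : F) * ((-t) ^ 1 * u ^ 1)) = -(t * u) by push_cast; grind, show (((3 : ℤ) : F) * ((-t) ^ 2 * u ^ 1)) = 0 by push_cast; grind, xi_zero, one_mul, show (((-3 : ℤ) : F) * ((-t) ^ 1 * u ^ 2)) = 0 by push_cast; grind, xi_zero, one_mul]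

omit [CharP F 3] in
theorem swG23_5_3 (t u : F) (g : G) : xi S 5 u * (xi S 3 t * g) =
    xi S 3 t * (xi S 5 u * g) := by
  rw [← mul_assoc, xi_swap S (r := 3) (s := 5) (L := []) (by decide +kernel)]
  simp only [List.map, wd_cons, wd_nil, mul_assoc, one_mul]

theorem swG23_6_3 (t u : F) (g : G) : xi S 6 u * (xi S 3 t * g) =
    xi S 3 t * (xi S 6 u * (xi S 4 (-(t * u)) * (xi S 2 (-(t ^ 2 * u)) * (xi S 0 (-(t ^ 3 * u)) * (xi S 1 (t ^ 3 * u ^ 2) * g))))) := by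
  rw [← mul_assoc, xi_swap S (r := 3) (s := 6) (L := [(4, 1, 1, 1), (2, -1, 2, 1), (0, 1, 3, 1), (1, -1, 3, 2)]) (by decide +kernel)]
  simp only [List.map, wd_cons, wd_nil, mul_assoc, one_mul]
  rw [show (((1 : ℤ) : F) * ((-t) ^ 1 * u ^ 1)) = -(t * u) by push_cast; grind, show (((-1 : ℤ) : F) * ((-t) ^ 2 * u ^ 1)) = -(t ^ 2 * u) by push_cast; grind, show (((1 : ℤ) : F) * ((-t) ^ 3 * u ^ 1)) = -(t ^ 3 * u) by push_cast; grind, show (((-1 : ℤ) : F) * ((-t) ^ 3 * u ^ 2)) = t ^ 3 * u ^ 2 by push_cast; grind]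

theorem swG23_7_3 (t u : F) (g : G) : xi S 7 u * (xi S 3 t * g) =
    xi S 3 t * (xi S 7 u * g) := by
  rw [← mul_assoc, xi_swap S (r := 3) (s := 7) (L := [(5, -3, 1, 1)]) (by decide +kernel)]
  simp only [List.map, wd_cons, wd_nil, mul_assoc, one_mul]
  rw [show (((-3 : ℤ) : F) * ((-t) ^ 1 * u ^ 1)) = 0 by push_cast; grind, xi_zero, one_mul]

theorem swG23_9_3 (t u : F) (g : G) : xi S 9 u * (xi S 3 t * g) =
    xi S 3 t * (xi S 9 u * (xi S 7 (t * u) * g)) := by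
  rw [← mul_assoc, xi_swap S (r := 3) (s := 9) (L := [(7, 2, 1, 1), (5, -3, 2, 1), (10, 3, 1, 2)]) (by decide +kernel)]
  simp only [List.map, wd_cons, wd_nil, mul_assoc, one_mul]
  rw [show (((2 : ℤ) : F) * ((-t) ^ 1 * u ^ 1)) = t * u by push_cast; grind, show (((-3 : ℤ) : F) * ((-t) ^ 2 * u ^ 1)) = 0 by push_cast; grind, xi_zero, one_mul, show (((3 : ℤ) : F) * ((-t) ^ 1 * u ^ 2)) = 0 by push_cast; grind, xi_zero, one_mul]

omit [CharP F 3] in
theorem swG23_10_3 (t u : F) (g : G) : xi S 10 u * (xi S 3 t * g) =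
    xi S 3 t * (xi S 10 u * g) := by
  rw [← mul_assoc, xi_swap S (r := 3) (s := 10) (L := []) (by decide +kernel)]
  simp only [List.map, wd_cons, wd_nil, mul_assoc, one_mul]

theorem swG23_11_3 (t u : F) (g : G) : xi S 11 u * (xi S 3 t * g) =
    xi S 3 t * (xi S 11 u * (xi S 9 (-(t * u)) * (xi S 7 (t ^ 2 * u) * (xi S 5 (t ^ 3 * u) * (xi S 10 (-(t ^ 3 * u ^ 2)) * g))))) := by
  rw [← mul_assoc, xi_swap S (r := 3) (s := 11) (L := [(9, 1, 1, 1), (7, 1, 2, 1), (5, -1, 3, 1), (10, 1, 3, 2)]) (by decide +kernel)]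
  simp only [List.map, wd_cons, wd_nil, mul_assoc, one_mul]
  rw [show (((1 : ℤ) : F) * ((-t) ^ 1 * u ^ 1)) = -(t * u) by push_cast; grind, show (((1 : ℤ) : F) * ((-t) ^ 2 * u ^ 1)) = t ^ 2 * u by push_cast; grind, show (((-1 : ℤ) : F) * ((-t) ^ 3 * u ^ 1)) = t ^ 3 * u by push_cast; grind, show (((1 : ℤ) : F) * ((-t) ^ 3 * u ^ 2)) = -(t ^ 3 * u ^ 2) by push_cast; grind]

theorem swG23_5_4 (t u : F) (g : G) : xi S 5 u * (xi S 4 t * g) =
    xi S 4 t * (xi S 5 u * (xi S 3 (-(t * u)) * (xi S 2 (t ^ 2 * u) * (xi S 1 (t ^ 3 * u) * (xi S 0 (-(t ^ 3 * u ^ 2)) * g))))) := by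
  rw [← mul_assoc, xi_swap S (r := 4) (s := 5) (L := [(3, 1, 1, 1), (2, 1, 2, 1), (1, -1, 3, 1), (0, 1, 3, 2)]) (by decide +kernel)]
  simp only [List.map, wd_cons, wd_nil, mul_assoc, one_mul]
  rw [show (((1 : ℤ) : F) * ((-t) ^ 1 * u ^ 1)) = -(t * u) by push_cast; grind, show (((1 : ℤ) : F) * ((-t) ^ 2 * u ^ 1)) = t ^ 2 * u by push_cast; grind, show (((-1 : ℤ) : F) * ((-t) ^ 3 * u ^ 1)) = t ^ 3 * u by push_cast; grind, show (((1 : ℤ) : F) * ((-t) ^ 3 * u ^ 2)) = -(t ^ 3 * u ^ 2) by push_cast; grind]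

omit [CharP F 3] in
theorem swG23_6_4 (t u : F) (g : G) : xi S 6 u * (xi S 4 t * g) =
    xi S 4 t * (xi S 6 u * g) := by
  rw [← mul_assoc, xi_swap S (r := 4) (s := 6) (L := []) (by decide +kernel)]
  simp only [List.map, wd_cons, wd_nil, mul_assoc, one_mul]

theorem swG23_8_4 (t u : F) (g : G) : xi S 8 u * (xi S 4 t * g) =
    xi S 4 t * (xi S 8 u * g) := by
  rw [← mul_assoc, xi_swap S (r := 4) (s := 8) (L := [(6, -3, 1, 1)]) (by decide +kernel)]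
  simp only [List.map, wd_cons, wd_nil, mul_assoc, one_mul]
  rw [show (((-3 : ℤ) : F) * ((-t) ^ 1 * u ^ 1)) = 0 by push_cast; grind, xi_zero, one_mul]

theorem swG23_9_4 (t u : F) (g : G) : xi S 9 u * (xi S 4 t * g) =
    xi S 4 t * (xi S 9 u * (xi S 8 (-(t * u)) * g)) := by
  rw [← mul_assoc, xi_swap S (r := 4) (s := 9) (L := [(8, -2, 1, 1), (6, 3, 2, 1), (11, -3, 1, 2)]) (by decide +kernel)]
  simp only [List.map, wd_cons, wd_nil, mul_assoc, one_mul]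
  rw [show (((-2 : ℤ) : F) * ((-t) ^ 1 * u ^ 1)) = -(t * u) by push_cast; grind, show (((3 : ℤ) : F) * ((-t) ^ 2 * u ^ 1)) = 0 by push_cast; grind, xi_zero, one_mul, show (((-3 : ℤ) : F) * ((-t) ^ 1 * u ^ 2)) = 0 by push_cast; grind, xi_zero, one_mul]

theorem swG23_10_4 (t u : F) (g : G) : xi S 10 u * (xi S 4 t * g) =
    xi S 4 t * (xi S 10 u * (xi S 9 (-(t * u)) * (xi S 8 (-(t ^ 2 * u)) * (xi S 6 (-(t ^ 3 * u)) * (xi S 11 (t ^ 3 * u ^ 2) * g))))) := by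
  rw [← mul_assoc, xi_swap S (r := 4) (s := 10) (L := [(9, 1, 1, 1), (8, -1, 2, 1), (6, 1, 3, 1), (11, -1, 3, 2)]) (by decide +kernel)]
  simp only [List.map, wd_cons, wd_nil, mul_assoc, one_mul]
  rw [show (((1 : ℤ) : F) * ((-t) ^ 1 * u ^ 1)) = -(t * u) by push_cast; grind, show (((-1 : ℤ) : F) * ((-t) ^ 2 * u ^ 1)) = -(t ^ 2 * u) by push_cast; grind, show (((1 : ℤ) : F) * ((-t) ^ 3 * u ^ 1)) = -(t ^ 3 * u) by push_cast; grind, show (((-1 : ℤ) : F) * ((-t) ^ 3 * u ^ 2)) = t ^ 3 * u ^ 2 by push_cast; grind]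

omit [CharP F 3] in
theorem swG23_11_4 (t u : F) (g : G) : xi S 11 u * (xi S 4 t * g) =
    xi S 4 t * (xi S 11 u * g) := by
  rw [← mul_assoc, xi_swap S (r := 4) (s := 11) (L := []) (by decide +kernel)]
  simp only [List.map, wd_cons, wd_nil, mul_assoc, one_mul]

omit [CharP F 3] in
theorem swG23_7_5 (t u : F) (g : G) : xi S 7 u * (xi S 5 t * g) =
    xi S 5 t * (xi S 7 u * g) := by
  rw [← mul_assoc, xi_swap S (r := 5) (s := 7) (L := []) (by decide +kernel)]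
  simp only [List.map, wd_cons, wd_nil, mul_assoc, one_mul]

theorem swG23_8_5 (t u : F) (g : G) : xi S 8 u * (xi S 5 t * g) =
    xi S 5 t * (xi S 8 u * (xi S 7 (-(t * u)) * (xi S 9 (t * u ^ 2) * (xi S 11 (-(t * u ^ 3)) * (xi S 10 (-(t ^ 2 * u ^ 3)) * g))))) := by
  rw [← mul_assoc, xi_swap S (r := 5) (s := 8) (L := [(7, 1, 1, 1), (9, -1, 1, 2), (11, 1, 1, 3), (10, 2, 2, 3)]) (by decide +kernel)]
  simp only [List.map, wd_cons, wd_nil, mul_assoc, one_mul]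
  rw [show (((1 : ℤ) : F) * ((-t) ^ 1 * u ^ 1)) = -(t * u) by push_cast; grind, show (((-1 : ℤ) : F) * ((-t) ^ 1 * u ^ 2)) = t * u ^ 2 by push_cast; grind, show (((1 : ℤ) : F) * ((-t) ^ 1 * u ^ 3)) = -(t * u ^ 3) by push_cast; grind, show (((2 : ℤ) : F) * ((-t) ^ 2 * u ^ 3)) = -(t ^ 2 * u ^ 3) by push_cast; grind]

omit [CharP F 3] in
theorem swG23_9_5 (t u : F) (g : G) : xi S 9 u * (xi S 5 t * g) =
    xi S 5 t * (xi S 9 u * g) := by
  rw [← mul_assoc, xi_swap S (r := 5) (s := 9) (L := []) (by decide +kernel)]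
  simp only [List.map, wd_cons, wd_nil, mul_assoc, one_mul]

omit [CharP F 3] in
theorem swG23_10_5 (t u : F) (g : G) : xi S 10 u * (xi S 5 t * g) =
    xi S 5 t * (xi S 10 u * g) := by
  rw [← mul_assoc, xi_swap S (r := 5) (s := 10) (L := []) (by decide +kernel)]
  simp only [List.map, wd_cons, wd_nil, mul_assoc, one_mul]

theorem swG23_11_5 (t u : F) (g : G) : xi S 11 u * (xi S 5 t * g) =
    xi S 5 t * (xi S 11 u * (xi S 10 (-(t * u)) * g)) := by
  rw [← mul_assoc, xi_swap S (r := 5) (s := 11) (L := [(10, 1, 1, 1)]) (by decide +kernel)]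
  simp only [List.map, wd_cons, wd_nil, mul_assoc, one_mul]
  rw [show (((1 : ℤ) : F) * ((-t) ^ 1 * u ^ 1)) = -(t * u) by push_cast; grind]

theorem swG23_7_6 (t u : F) (g : G) : xi S 7 u * (xi S 6 t * g) =
    xi S 6 t * (xi S 7 u * (xi S 8 (-(t * u)) * (xi S 9 (-(t * u ^ 2)) * (xi S 10 (t * u ^ 3) * (xi S 11 (t ^ 2 * u ^ 3) * g))))) := by
  rw [← mul_assoc, xi_swap S (r := 6) (s := 7) (L := [(8, 1, 1, 1), (9, 1, 1, 2), (10, -1, 1, 3), (11, -2, 2, 3)]) (by decide +kernel)]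
  simp only [List.map, wd_cons, wd_nil, mul_assoc, one_mul]
  rw [show (((1 : ℤ) : F) * ((-t) ^ 1 * u ^ 1)) = -(t * u) by push_cast; grind, show (((1 : ℤ) : F) * ((-t) ^ 1 * u ^ 2)) = -(t * u ^ 2) by push_cast; grind, show (((-1 : ℤ) : F) * ((-t) ^ 1 * u ^ 3)) = t * u ^ 3 by push_cast; grind, show (((-2 : ℤ) : F) * ((-t) ^ 2 * u ^ 3)) = t ^ 2 * u ^ 3 by push_cast; grind]

omit [CharP F 3] in
theorem swG23_8_6 (t u : F) (g : G) : xi S 8 u * (xi S 6 t * g) =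
    xi S 6 t * (xi S 8 u * g) := by
  rw [← mul_assoc, xi_swap S (r := 6) (s := 8) (L := []) (by decide +kernel)]
  simp only [List.map, wd_cons, wd_nil, mul_assoc, one_mul]

omit [CharP F 3] in
theorem swG23_9_6 (t u : F) (g : G) : xi S 9 u * (xi S 6 t * g) =
    xi S 6 t * (xi S 9 u * g) := by
  rw [← mul_assoc, xi_swap S (r := 6) (s := 9) (L := []) (by decide +kernel)]
  simp only [List.map, wd_cons, wd_nil, mul_assoc, one_mul]

theorem swG23_10_6 (t u : F) (g : G) : xi S 10 u * (xi S 6 t * g) =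
    xi S 6 t * (xi S 10 u * (xi S 11 (-(t * u)) * g)) := by
  rw [← mul_assoc, xi_swap S (r := 6) (s := 10) (L := [(11, 1, 1, 1)]) (by decide +kernel)]
  simp only [List.map, wd_cons, wd_nil, mul_assoc, one_mul]
  rw [show (((1 : ℤ) : F) * ((-t) ^ 1 * u ^ 1)) = -(t * u) by push_cast; grind]

omit [CharP F 3] in
theorem swG23_11_6 (t u : F) (g : G) : xi S 11 u * (xi S 6 t * g) =
    xi S 6 t * (xi S 11 u * g) := by
  rw [← mul_assoc, xi_swap S (r := 6) (s := 11) (L := []) (by decide +kernel)]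
  simp only [List.map, wd_cons, wd_nil, mul_assoc, one_mul]

theorem swG23_8_7 (t u : F) (g : G) : xi S 8 u * (xi S 7 t * g) =
    xi S 7 t * (xi S 8 u * (xi S 9 (-(t * u)) * g)) := by
  rw [← mul_assoc, xi_swap S (r := 7) (s := 8) (L := [(9, -2, 1, 1), (10, -3, 2, 1), (11, 3, 1, 2)]) (by decide +kernel)]
  simp only [List.map, wd_cons, wd_nil, mul_assoc, one_mul]
  rw [show (((-2 : ℤ) : F) * ((-t) ^ 1 * u ^ 1)) = -(t * u) by push_cast; grind, show (((-3 : ℤ) : F) * ((-t) ^ 2 * u ^ 1)) = 0 by push_cast; grind, xi_zero, one_mul, show (((3 : ℤ) : F) * ((-t) ^ 1 * u ^ 2)) = 0 by push_cast; grind, xi_zero, one_mul]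

theorem swG23_9_7 (t u : F) (g : G) : xi S 9 u * (xi S 7 t * g) =
    xi S 7 t * (xi S 9 u * g) := by
  rw [← mul_assoc, xi_swap S (r := 7) (s := 9) (L := [(10, 3, 1, 1)]) (by decide +kernel)]
  simp only [List.map, wd_cons, wd_nil, mul_assoc, one_mul]
  rw [show (((3 : ℤ) : F) * ((-t) ^ 1 * u ^ 1)) = 0 by push_cast; grind, xi_zero, one_mul]

omit [CharP F 3] in
theorem swG23_10_7 (t u : F) (g : G) : xi S 10 u * (xi S 7 t * g) =
    xi S 7 t * (xi S 10 u * g) := by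
  rw [← mul_assoc, xi_swap S (r := 7) (s := 10) (L := []) (by decide +kernel)]
  simp only [List.map, wd_cons, wd_nil, mul_assoc, one_mul]

omit [CharP F 3] in
theorem swG23_11_7 (t u : F) (g : G) : xi S 11 u * (xi S 7 t * g) =
    xi S 7 t * (xi S 11 u * g) := by
  rw [← mul_assoc, xi_swap S (r := 7) (s := 11) (L := []) (by decide +kernel)]
  simp only [List.map, wd_cons, wd_nil, mul_assoc, one_mul]

theorem swG23_9_8 (t u : F) (g : G) : xi S 9 u * (xi S 8 t * g) =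
    xi S 8 t * (xi S 9 u * g) := by
  rw [← mul_assoc, xi_swap S (r := 8) (s := 9) (L := [(11, 3, 1, 1)]) (by decide +kernel)]
  simp only [List.map, wd_cons, wd_nil, mul_assoc, one_mul]
  rw [show (((3 : ℤ) : F) * ((-t) ^ 1 * u ^ 1)) = 0 by push_cast; grind, xi_zero, one_mul]

omit [CharP F 3] in
theorem swG23_10_8 (t u : F) (g : G) : xi S 10 u * (xi S 8 t * g) =
    xi S 8 t * (xi S 10 u * g) := by
  rw [← mul_assoc, xi_swap S (r := 8) (s := 10) (L := []) (by decide +kernel)]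
  simp only [List.map, wd_cons, wd_nil, mul_assoc, one_mul]

omit [CharP F 3] in
theorem swG23_11_8 (t u : F) (g : G) : xi S 11 u * (xi S 8 t * g) =
    xi S 8 t * (xi S 11 u * g) := by
  rw [← mul_assoc, xi_swap S (r := 8) (s := 11) (L := []) (by decide +kernel)]
  simp only [List.map, wd_cons, wd_nil, mul_assoc, one_mul]

omit [CharP F 3] in
theorem swG23_10_9 (t u : F) (g : G) : xi S 10 u * (xi S 9 t * g) =
    xi S 9 t * (xi S 10 u * g) := by
  rw [← mul_assoc, xi_swap S (r := 9) (s := 10) (L := []) (by decide +kernel)]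
  simp only [List.map, wd_cons, wd_nil, mul_assoc, one_mul]

omit [CharP F 3] in
theorem swG23_11_9 (t u : F) (g : G) : xi S 11 u * (xi S 9 t * g) =
    xi S 9 t * (xi S 11 u * g) := by
  rw [← mul_assoc, xi_swap S (r := 9) (s := 11) (L := []) (by decide +kernel)]
  simp only [List.map, wd_cons, wd_nil, mul_assoc, one_mul]

omit [CharP F 3] in
theorem swG23_11_10 (t u : F) (g : G) : xi S 11 u * (xi S 10 t * g) =
    xi S 10 t * (xi S 11 u * g) := by
  rw [← mul_assoc, xi_swap S (r := 10) (s := 11) (L := []) (by decide +kernel)]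
  simp only [List.map, wd_cons, wd_nil, mul_assoc, one_mul]

end Cfsg.Agent.Tw
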